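import Mathlib

/-!
Locally closed points of (locally Noetherian) schemes.
-/

set_option autoImplicit false
set_option backward.isDefEq.respectTransparency false
set_option backward.isDefEq.respectTransparency.types false

noncomputable section

universe u

namespace Groth.Agent.EGA43.LocClosed

open AlgebraicGeometry TopologicalSpace

/-- no chain of two strict inclusions above an isolated prime -/
theorem no_chain {R : Type u} [CommRing R] [IsNoetherianRing R] (p q r : PrimeSpectrum R)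
    (f : R) (hiso : ∀ s : PrimeSpectrum R, p ≤ s → f ∉ s.asIdeal → s = p)
    (hfp : f ∉ p.asIdeal) (hpq : p < q) (hqr : q < r) : False := by
  let D := R ⧸ p.asIdeal
  let π : R →+* D := Ideal.Quotient.mk p.asIdeal
  have hπ : Function.Surjective π := Ideal.Quotient.mk_surjective
  let Q := q.asIdeal.map π
  let R' := r.asIdeal.map π
  have hcomap : ∀ s : PrimeSpectrum R, p ≤ s → (s.asIdeal.map π).comap π = s.asIdeal := fun s hs => by
    rw [Ideal.comap_map_of_surjective π hπ, ← RingHom.ker_eq_comap_bot, Ideal.mk_ker]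
    exact sup_eq_left.mpr hs
  haveI hQp : Q.IsPrime := Ideal.map_isPrime_of_surjective hπ (by rw [Ideal.mk_ker]; exact hpq.le)
  haveI hRp : R'.IsPrime :=
    Ideal.map_isPrime_of_surjective hπ (by rw [Ideal.mk_ker]; exact (hpq.trans hqr).le)
  have hQR : Q < R' := by
    refine lt_of_le_of_ne (Ideal.map_mono hqr.le) fun h => hqr.ne (PrimeSpectrum.ext ?_)
    rw [← hcomap q hpq.le, ← hcomap r (hpq.trans hqr).le]; exact congrArg _ h
  have hQ0 : ⊥ < Q := by
    refine bot_lt_iff_ne_bot.mpr fun h => hpq.ne (PrimeSpectrum.ext ?_)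
    rw [← hcomap q hpq.le, show q.asIdeal.map π = ⊥ from h, ← RingHom.ker_eq_comap_bot, Ideal.mk_ker]
  have hf0 : π f ≠ 0 := fun h => hfp (Ideal.Quotient.eq_zero_iff_mem.mp h)
  have hmem : ∀ P : Ideal D, P.IsPrime → P ≠ ⊥ → π f ∈ P := by
    intro P hP hP0
    by_contra hc
    haveI : (P.comap π).IsPrime := Ideal.comap_isPrime π P
    have := hiso ⟨P.comap π, inferInstance⟩ (by
      show p.asIdeal ≤ P.comap π
      intro a ha
      show π a ∈ P
      rw [show π a = 0 from Ideal.Quotient.eq_zero_iff_mem.mpr ha]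
      exact zero_mem _) hc
    apply hP0
    rw [← Ideal.map_comap_of_surjective π hπ P, show P.comap π = p.asIdeal from
      congrArg PrimeSpectrum.asIdeal this, Ideal.map_quotient_self]
  let F := Ideal.span {π f}
  -- `R'` is not minimal over `F`
  have hR : R' ∉ F.minimalPrimes := by
    intro hc
    haveI : F.IsPrincipal := ⟨π f, rfl⟩
    have h1 : R'.height ≤ 1 := Ideal.height_le_one_of_isPrincipal_of_mem_minimalPrimes F R' hc
    have h2 : (1 : ℕ∞) ≤ Q.height := by
      rw [ENat.one_le_iff_ne_zero, Ne, Ideal.height_eq_zero_iff]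
      intro h
      exact hQ0.ne' (le_bot_iff.mp (h.2 ⟨Ideal.isPrime_bot, le_refl _⟩ bot_le))
    have h3 : Q.height + 1 ≤ R'.height := Ideal.height_add_one_le_of_lt_of_isPrime hQR
    exact absurd (le_trans (add_le_add_left h2 1) (h3.trans h1)) (by norm_num)
  have hfin := F.finite_minimalPrimes_of_isNoetherianRing D
  obtain ⟨g, hgR, hg⟩ : ∃ g ∈ R', ∀ P ∈ F.minimalPrimes, g ∉ P := by
    by_contra hc
    push_neg at hc
    obtain ⟨P, hP, hle⟩ := (Ideal.subset_union_prime (s := hfin.toFinset) (f := id) ⊥ ⊥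
      (fun P hP _ _ => (hfin.mem_toFinset.mp hP).1.1)).mp (fun x hx => by
        obtain ⟨P, hP, hxP⟩ := hc x hx
        exact Set.mem_biUnion (hfin.mem_toFinset.mpr hP) hxP)
    have hP' := hfin.mem_toFinset.mp hP
    refine hR ?_
    have hfR : F ≤ R' := (Ideal.span_singleton_le_iff_mem _).mpr
      (hmem R' hRp (hQ0.trans hQR).ne')
    have : R' = P := le_antisymm hle (hP'.2 ⟨hRp, hfR⟩ hle)
    rwa [this]
  obtain ⟨P, hP, hPR⟩ := Ideal.exists_minimalPrimes_le
    ((Ideal.span_singleton_le_iff_mem R').mpr hgR)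
  haveI := hP.1.1
  haveI : (Ideal.span {g}).IsPrincipal := ⟨g, rfl⟩
  have h1 : P.height ≤ 1 := Ideal.height_le_one_of_isPrincipal_of_mem_minimalPrimes _ P hP
  have hgP : g ∈ P := hP.1.2 (Ideal.mem_span_singleton_self g)
  have hP0 : P ≠ ⊥ := by
    intro h
    have hg0 : g = 0 := by rw [h] at hgP; exact hgP
    obtain ⟨P', hP'⟩ := F.nonempty_minimalPrimes (fun h => hRp.ne_top (top_le_iff.mp
      (h ▸ (Ideal.span_singleton_le_iff_mem _).mpr (hmem R' hRp (hQ0.trans hQR).ne'))))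
    exact hg P' hP' (hg0 ▸ zero_mem _)
  obtain ⟨P', hP', hle⟩ := Ideal.exists_minimalPrimes_le
    ((Ideal.span_singleton_le_iff_mem P).mpr (hmem P hP.1.1 hP0))
  haveI := hP'.1.1
  have hP'0 : P' ≠ ⊥ := fun h => hf0 (by
    have := hP'.1.2 (Ideal.mem_span_singleton_self (π f)); rw [h] at this; exact this)
  have hlt : P' < P := lt_of_le_of_ne hle fun h => hg P' hP' (h ▸ hgP)
  have h2 : (1 : ℕ∞) ≤ P'.height := by
    rw [ENat.one_le_iff_ne_zero, Ne, Ideal.height_eq_zero_iff]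
    intro h
    exact hP'0 (le_bot_iff.mp (h.2 ⟨Ideal.isPrime_bot, le_refl _⟩ bot_le))
  exact absurd (le_trans (add_le_add_left h2 1)
    ((Ideal.height_add_one_le_of_lt_of_isPrime hlt).trans h1)) (by norm_num)

theorem exists_locallyClosed_singleton (X : Scheme.{u}) {Z : Set X} (hZ : IsLocallyClosed Z)
    (hne : Z.Nonempty) : ∃ x ∈ Z, IsLocallyClosed ({x} : Set X) := by
  obtain ⟨O, C, hO, hC, rfl⟩ := hZ
  obtain ⟨z, hzO, hzC⟩ := hne
  obtain ⟨V, hV, hzV, hVO⟩ := exists_isAffineOpen_mem_and_subset (U := ⟨O, hO⟩) hzO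
  haveI : CompactSpace V := isCompact_iff_compactSpace.mp hV.isCompact
  haveI : T0Space V := Subtype.t0Space
  obtain ⟨x, hx, hxc⟩ := IsClosed.exists_closed_singleton (S := (Subtype.val ⁻¹' C : Set V))
    (hC.preimage continuous_subtype_val) ⟨⟨z, hzV⟩, hzC⟩
  refine ⟨x.1, ⟨hVO x.2, hx⟩, ?_⟩
  have h := hxc.isLocallyClosed.image (Topology.IsInducing.subtypeVal (t := (V : Set X)))
    (by rw [Subtype.range_coe]; exact V.2.isLocallyClosed)
  simpa using h

theorem eq_of_chain {X : Scheme.{u}} [IsLocallyNoetherian X] {x : X}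
    (hx : IsLocallyClosed ({x} : Set X)) {y z : X} (hxy : x ⤳ y) (hyz : y ⤳ z) (hne : y ≠ x) :
    z = y := by
  by_contra hzy
  obtain ⟨O, C, hO, hC, hOC⟩ := hx
  obtain ⟨U, hU, hzU, -⟩ := exists_isAffineOpen_mem_and_subset (U := ⊤) (Opens.mem_top z)
  have hyU : y ∈ U := hyz.mem_open U.2 hzU
  have hxU : x ∈ U := hxy.mem_open U.2 hyU
  haveI : IsNoetherianRing Γ(X, U) := IsLocallyNoetherian.component_noetherian ⟨U, hU⟩
  let φ := hU.fromSpec
  have hrange : Set.range φ = (U : Set X) := hU.range_fromSpec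
  obtain ⟨p, hp⟩ : ∃ s : PrimeSpectrum Γ(X, U), φ s = x := (hrange ▸ hxU : x ∈ Set.range φ)
  obtain ⟨q, hq⟩ : ∃ s : PrimeSpectrum Γ(X, U), φ s = y := (hrange ▸ hyU : y ∈ Set.range φ)
  obtain ⟨r, hr⟩ : ∃ s : PrimeSpectrum Γ(X, U), φ s = z := (hrange ▸ hzU : z ∈ Set.range φ)
  have hind : Topology.IsInducing φ := φ.isOpenEmbedding.isInducing
  have hpq : p < q := lt_of_le_of_ne
    ((PrimeSpectrum.le_iff_specializes p q).mpr (hind.specializes_iff.mp (hp ▸ hq ▸ hxy)))
    (fun h => hne (by rw [← hq, ← hp, h]))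
  have hqr : q < r := lt_of_le_of_ne
    ((PrimeSpectrum.le_iff_specializes q r).mpr (hind.specializes_iff.mp (hq ▸ hr ▸ hyz)))
    (fun h => hzy (by rw [← hr, ← hq, h]))
  have hxO : x ∈ O ∧ x ∈ C := (hOC ▸ rfl : x ∈ O ∩ C)
  obtain ⟨_, ⟨f, rfl⟩, hfp, hfO⟩ := PrimeSpectrum.isTopologicalBasis_basic_opens.exists_subset_of_mem_open
    (show p ∈ φ ⁻¹' O by show φ p ∈ O; rw [hp]; exact hxO.1) (hO.preimage φ.continuous)
  refine no_chain p q r f (fun s hps hfs => ?_) hfp hpq hqr
  have hs : φ s ∈ O ∩ C := ⟨hfO hfs, (((PrimeSpectrum.le_iff_specializes p s).mp hps).map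
    φ.continuous).mem_closed hC (hp ▸ hxO.2)⟩
  rw [← hOC, Set.mem_singleton_iff, ← hp] at hs
  exact φ.isOpenEmbedding.injective hs

theorem isClosed_of_mem_closure {X : Scheme.{u}} [IsLocallyNoetherian X] {x : X}
    (hx : IsLocallyClosed ({x} : Set X)) {y : X} (hy : y ∈ closure {x}) (hne : y ≠ x) :
    IsClosed ({y} : Set X) := by
  rw [← closure_subset_iff_isClosed]
  intro z hz
  exact eq_of_chain hx (specializes_iff_mem_closure.mpr hy) (specializes_iff_mem_closure.mpr hz) hne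

theorem exists_closedPoint {X : Scheme.{u}} [IsLocallyNoetherian X] {Z : Set X} (hZ : IsClosed Z)
    (hne : Z.Nonempty) : ∃ x ∈ Z, IsClosed ({x} : Set X) := by
  obtain ⟨x, hxZ, hx⟩ := exists_locallyClosed_singleton X hZ.isLocallyClosed hne
  by_cases h : closure ({x} : Set X) = {x}
  · exact ⟨x, hxZ, h ▸ isClosed_closure⟩
  · obtain ⟨y, hy, hne'⟩ : ∃ y ∈ closure ({x} : Set X), y ≠ x := by
      by_contra hc
      push_neg at hc
      exact h (Set.eq_singleton_iff_unique_mem.mpr ⟨subset_closure rfl, hc⟩)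
    exact ⟨y, hZ.closure_subset_iff.mpr (Set.singleton_subset_iff.mpr hxZ) hy,
      isClosed_of_mem_closure hx hy hne'⟩

theorem finite_closure {X : Scheme.{u}} [IsNoetherian X] {x : X}
    (hx : IsLocallyClosed ({x} : Set X)) : (closure ({x} : Set X)).Finite := by
  obtain ⟨O, C, hO, hC, hOC⟩ := hx
  have hxO : x ∈ O ∧ x ∈ C := (hOC ▸ rfl : x ∈ O ∩ C)
  have hC' : closure ({x} : Set X) ⊆ C := hC.closure_subset_iff.mpr (Set.singleton_subset_iff.mpr hxO.2)
  let K : Set X := closure {x} \ O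
  have hK : closure ({x} : Set X) ⊆ K ∪ {x} := fun y hy => by
    by_cases h : y ∈ O
    · exact Or.inr (hOC ▸ ⟨h, hC' hy⟩)
    · exact Or.inl ⟨hy, h⟩
  have hxlc : IsLocallyClosed ({x} : Set X) := ⟨O, C, hO, hC, hOC⟩
  have hpts : ∀ y ∈ K, IsClosed ({y} : Set X) := fun y hy =>
    isClosed_of_mem_closure hxlc hy.1 (fun h => hy.2 (h ▸ hxO.1))
  refine (Set.Finite.union ?_ (Set.finite_singleton x)).subset hK
  have hKc : IsClosed K := isClosed_closure.sdiff hO
  obtain ⟨S, hS, hSc, hSirr, hKS⟩ :=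
    NoetherianSpace.exists_finite_set_isClosed_irreducible hKc
  rw [hKS]
  refine hS.sUnion fun W hW => ?_
  have hWc := hSc W hW
  have hWi := hSirr W hW
  have hW' : IsGenericPoint hWi.genericPoint W := by
    have := hWi.isGenericPoint_genericPoint_closure
    rwa [hWc.closure_eq] at this
  have hmem : hWi.genericPoint ∈ K := hKS ▸ Set.mem_sUnion_of_mem hW'.mem hW
  rw [← hW'.def, (hpts _ hmem).closure_eq]
  exact Set.finite_singleton _

end Groth.Agent.EGA43.LocClosed
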