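import Mathlib
import Groth.Agent.RatMap.Sub
import Groth.Agent.EGA43.LocClosed
import Groth.Agent.RegularLocal.Basic

set_option autoImplicit false
set_option backward.isDefEq.respectTransparency false
universe u

open CategoryTheory AlgebraicGeometry TopologicalSpace

namespace Groth.Agent.EGA43.DvrSection

/-- A point without proper generizations or specializations is open in a locally Noetherian scheme. -/
theorem isOpen_singleton {F : Scheme.{u}} [IsLocallyNoetherian F] (w : F)
    (h : ∀ v : F, v ⤳ w → v = w) (h' : ∀ v : F, w ⤳ v → v = w) : IsOpen ({w} : Set F) := by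
  obtain ⟨V, hV, hwV, -⟩ := exists_isAffineOpen_mem_and_subset (U := ⊤) (x := w) trivial
  haveI : IsNoetherianRing Γ(F, V) := IsLocallyNoetherian.component_noetherian ⟨V, hV⟩
  let e := hV.fromSpec
  obtain ⟨p₀, hp⟩ := hV.range_fromSpec.superset hwV
  let p : PrimeSpectrum Γ(F, V) := p₀
  replace hp : e p = w := hp
  have hmin : ∀ q : PrimeSpectrum Γ(F, V), q ≤ p → q = p := fun q hq =>
    e.isOpenEmbedding.injective (by
      rw [hp]
      exact h _ (hp ▸ ((PrimeSpectrum.le_iff_specializes q p).mp hq).map e.continuous))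
  have hmax : ∀ q : PrimeSpectrum Γ(F, V), p ≤ q → q = p := fun q hq =>
    e.isOpenEmbedding.injective (by
      rw [hp]
      exact h' _ (hp ▸ ((PrimeSpectrum.le_iff_specializes p q).mp hq).map e.continuous))
  have hfin := Ideal.finite_minimalPrimes_of_isNoetherianRing Γ(F, V) ⊥
  have hopen : IsOpen ({p} : Set (PrimeSpectrum Γ(F, V))) := by
    rw [← isClosed_compl_iff]
    have : ({p}ᶜ : Set (PrimeSpectrum Γ(F, V))) =
        ⋃ M ∈ {M ∈ (⊥ : Ideal Γ(F, V)).minimalPrimes | ¬ M ≤ p.asIdeal},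
          PrimeSpectrum.zeroLocus (M : Set Γ(F, V)) := by
      ext q
      simp only [Set.mem_compl_iff, Set.mem_singleton_iff, Set.mem_iUnion, Set.mem_setOf_eq,
        PrimeSpectrum.mem_zeroLocus, SetLike.coe_subset_coe, exists_prop]
      constructor
      · intro hq
        obtain ⟨M, hM, hMq⟩ := Ideal.exists_minimalPrimes_le (bot_le (a := q.asIdeal))
        refine ⟨M, ⟨hM, fun hMp => hq ?_⟩, hMq⟩
        have := hmin ⟨M, hM.1.1⟩ hMp
        exact hmax q (by rw [← this]; exact hMq)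
      · rintro ⟨M, ⟨-, hMp⟩, hMq⟩ rfl
        exact hMp hMq
    rw [this]
    exact (hfin.subset fun M hM => hM.1).isClosed_biUnion fun M _ =>
      PrimeSpectrum.isClosed_zeroLocus _
  have := e.isOpenEmbedding.isOpenMap _ hopen
  rwa [Set.image_singleton, hp] at this

/-- the algebraic core: over the DVR, a generization in the generic fibre with no intermediate -/
theorem exists_generization {X Y : Scheme.{u}} [IsLocallyNoetherian X] (f : X ⟶ Y) (x : X)
    [IsRegularLocalRing (Y.presheaf.stalk (f x))] (hdim : ringKrullDim (Y.presheaf.stalk (f x)) ≤ 1)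
    (η : Y) (hη : η ⤳ f x) (hηgen : ∀ z : Y, z ⤳ η → z = η) (hne : η ≠ f x)
    (ξ : X) (hξ : ξ ⤳ x) (hξη : f ξ = η) :
    ∃ x' : X, ξ ⤳ x' ∧ x' ⤳ x ∧ f x' = η ∧
      ∀ w : X, x' ⤳ w → w ⤳ x → f w = f x → w = x := by
  classical
  let A := Y.presheaf.stalk (f x)
  let R := X.presheaf.stalk x
  let φ := (f.stalkMap x).hom
  have hnat : ∀ Q : PrimeSpectrum R, f (X.fromSpecStalk x Q) =
      Y.fromSpecStalk (f x) (PrimeSpectrum.comap φ Q) := fun Q => by
    show (X.fromSpecStalk x ≫ f) Q = _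
    rw [← Scheme.SpecMap_stalkMap_fromSpecStalk]
    rfl
  obtain ⟨q₀, hq⟩ : η ∈ Set.range (Y.fromSpecStalk (f x)) := by rw [Scheme.range_fromSpecStalk]; exact hη
  let q : PrimeSpectrum A := q₀
  replace hq : Y.fromSpecStalk (f x) q = η := hq
  have hinjY : Function.Injective (Y.fromSpecStalk (f x)) :=
    (Y.fromSpecStalk (f x)).isEmbedding.injective
  have hclosed : Y.fromSpecStalk (f x) (IsLocalRing.closedPoint A) = f x := Scheme.fromSpecStalk_closedPoint
  have hqm : ¬ IsLocalRing.maximalIdeal A ≤ q.asIdeal := fun h => hne (by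
    refine hq.symm.trans (Eq.trans ?_ hclosed)
    exact congrArg _ (PrimeSpectrum.ext (le_antisymm (IsLocalRing.le_maximalIdeal q.2.ne_top) h)))
  obtain ⟨t, htm, htq⟩ := SetLike.not_le_iff_exists.mp hqm
  -- primes of `A` are `q` or maximal
  have hA : ∀ a : PrimeSpectrum A, t ∈ a.asIdeal ∨ a = q := by
    intro a
    by_contra h
    push Not at h
    have hle : q ≤ a := by
      haveI : IsDomain A := Groth.Agent.RegularLocal.Basic.isDomain
      have h1 : (⟨⊥, Ideal.isPrime_bot⟩ : PrimeSpectrum A) = q := hinjY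
        ((hηgen _ (hq ▸ ((PrimeSpectrum.le_iff_specializes (⟨⊥, Ideal.isPrime_bot⟩ : PrimeSpectrum A) q).mp
          bot_le).map (Y.fromSpecStalk (f x)).continuous)).trans hq.symm)
      rw [← h1]; exact bot_le
    have h1 : q < a := lt_of_le_of_ne hle (Ne.symm h.2)
    have h2 : a < IsLocalRing.closedPoint A := lt_of_le_of_ne (IsLocalRing.le_maximalIdeal a.2.ne_top)
      (fun e => h.1 (by rw [e]; exact htm))
    let l : LTSeries (PrimeSpectrum A) :=
      ⟨2, ![q, a, IsLocalRing.closedPoint A], fun i => by fin_cases i <;> [exact h1; exact h2]⟩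
    have := (Order.LTSeries.length_le_krullDim l).trans hdim
    simp [l] at this
  obtain ⟨Pξ, hPξ⟩ : ξ ∈ Set.range (X.fromSpecStalk x) := by rw [Scheme.range_fromSpecStalk]; exact hξ
  have hgen : ∀ Q : PrimeSpectrum R, φ t ∉ Q.asIdeal → f (X.fromSpecStalk x Q) = η := fun Q hQ => by
    rw [hnat, (hA (PrimeSpectrum.comap φ Q)).resolve_left hQ, hq]
  have htξ : φ t ∉ Pξ.asIdeal := fun h => by
    have : Y.fromSpecStalk (f x) (PrimeSpectrum.comap φ Pξ) = Y.fromSpecStalk (f x) q := by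
      rw [← hnat, hPξ, hξη, hq]
    exact htq ((congrArg PrimeSpectrum.asIdeal (hinjY this)) ▸ h)
  let S : Set (Ideal R) := {P | Pξ.asIdeal ≤ P ∧ P.IsPrime ∧ φ t ∉ P}
  obtain ⟨P, ⟨hPle, hPp, hPt⟩, hPmax⟩ :=
    set_has_maximal_iff_noetherian.mpr (inferInstance : IsNoetherian R R) S ⟨Pξ.asIdeal, le_rfl, Pξ.2, htξ⟩
  refine ⟨X.fromSpecStalk x ⟨P, hPp⟩, ?_, ?_, hgen ⟨P, hPp⟩ hPt, fun w hw hwx hwy => ?_⟩
  · rw [← hPξ]
    exact ((PrimeSpectrum.le_iff_specializes Pξ ⟨P, hPp⟩).mp hPle).map (X.fromSpecStalk x).continuous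
  · exact (Set.ext_iff.mp Scheme.range_fromSpecStalk _).mp ⟨_, rfl⟩
  · obtain ⟨Q₀, rfl⟩ : w ∈ Set.range (X.fromSpecStalk x) := by rw [Scheme.range_fromSpecStalk]; exact hwx
    revert hw hwx hwy
    let Q : PrimeSpectrum R := Q₀
    show X.fromSpecStalk x ⟨P, hPp⟩ ⤳ X.fromSpecStalk x Q → X.fromSpecStalk x Q ⤳ x →
      f (X.fromSpecStalk x Q) = f x → X.fromSpecStalk x Q = x
    intro hw hwx hwy
    have hPQ : (⟨P, hPp⟩ : PrimeSpectrum R) ≤ Q :=
      (PrimeSpectrum.le_iff_specializes _ _).mpr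
        ((X.fromSpecStalk x).isEmbedding.isInducing.specializes_iff.mp hw)
    have htQ : φ t ∈ Q.asIdeal := by
      by_contra h
      exact hne ((hgen Q h).symm.trans hwy)
    have hPQ' : (⟨P, hPp⟩ : PrimeSpectrum R) < Q := lt_of_le_of_ne hPQ fun e => hPt (by
      have := congrArg PrimeSpectrum.asIdeal e
      rw [show P = Q.asIdeal from this]; exact htQ)
    by_contra hQne
    have hQm : Q < IsLocalRing.closedPoint R :=
      lt_of_le_of_ne (show Q.asIdeal ≤ _ from IsLocalRing.le_maximalIdeal Q.2.ne_top) fun e => hQne (by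
        rw [e]; exact Scheme.fromSpecStalk_closedPoint)
    exact Groth.Agent.EGA43.LocClosed.no_chain ⟨P, hPp⟩ Q _ (φ t) (fun s hs hts => PrimeSpectrum.ext
      (by
        by_contra hne'
        exact hPmax s.asIdeal ⟨hPle.trans hs, s.2, hts⟩
          (lt_of_le_of_ne hs (fun e => hne' e.symm)))) hPt hPQ' hQm

/-- The quasi-section through `x` along a generization `x'`. -/
theorem exists_section {X Y : Scheme.{u}} [IsLocallyNoetherian Y] [IrreducibleSpace Y] (f : X ⟶ Y)
    [LocallyOfFiniteType f] (x x' : X) (hx' : x' ⤳ x) (hgen : f x' = genericPoint Y)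
    (hcl : ∀ v : X, f v = f x → x ⤳ v → v = x)
    (hmid : ∀ w : X, x' ⤳ w → w ⤳ x → f w = f x → w = x) :
    ∃ (T : Scheme.{u}) (i : T ⟶ X), IsImmersion i ∧ IrreducibleSpace ↥T ∧ IsReduced T ∧ x ∈ Set.range i.base ∧
      Set.range i.base ⊆ closure {x'} ∧
      LocallyOfFiniteType (i ≫ f) ∧ LocallyQuasiFinite (i ≫ f) ∧ QuasiCompact (i ≫ f) ∧ IsDominant (i ≫ f) := by
  haveI : IsLocallyNoetherian X := LocallyOfFiniteType.isLocallyNoetherian f
  let Z : Closeds X := ⟨closure {x'}, isClosed_closure⟩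
  let I := Scheme.IdealSheafData.vanishingIdeal Z
  haveI : IsReduced I.subscheme := Groth.Agent.RatMap.Sub.isReduced_subscheme _ fun U => by
    rw [Scheme.IdealSheafData.vanishingIdeal_ideal]
    exact PrimeSpectrum.isRadical_vanishingIdeal _
  let j := I.subschemeι
  have hrange : Set.range j.base = closure {x'} := by
    rw [show Set.range j.base = _ from I.range_subschemeι, Scheme.IdealSheafData.coe_support_vanishingIdeal]
    rfl
  obtain ⟨w₀, hw₀⟩ : x ∈ Set.range j.base := by rw [hrange]; exact hx'.mem_closure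
  obtain ⟨g₀, hg₀⟩ : x' ∈ Set.range j.base := by rw [hrange]; exact subset_closure rfl
  haveI : IrreducibleSpace I.subscheme := by
    haveI : IrreducibleSpace (closure {x'} : Set X) :=
      Subtype.irreducibleSpace isIrreducible_singleton.closure
    have e := (j.isEmbedding.toHomeomorph.trans (Homeomorph.setCongr hrange))
    exact e.symm.surjective.irreducibleSpace e.symm.continuous
  let h := j ≫ f
  haveI : LocallyOfFiniteType (h.fiberToSpecResidueField (h w₀)) :=
    MorphismProperty.pullback_snd _ _ inferInstance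
  haveI : IsLocallyNoetherian (h.fiber (h w₀)) := LocallyOfFiniteType.isLocallyNoetherian (h.fiberToSpecResidueField _)
  have hfib : ∀ v : h.fiber (h w₀), f (j (h.fiberι (h w₀) v)) = f x := fun v => by
    have : h.fiberι (h w₀) v ∈ h ⁻¹' {h w₀} := by rw [← h.range_fiberι]; exact ⟨v, rfl⟩
    have h2 : h (h.fiberι (h w₀) v) = h w₀ := this
    rw [← hw₀]; exact h2
  have hι : ∀ v : h.fiber (h w₀), j (h.fiberι (h w₀) v) ∈ closure {x'} := fun v => hrange ▸ ⟨_, rfl⟩
  have hqf : h.QuasiFiniteAt w₀ := by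
    rw [Scheme.Hom.quasiFiniteAt_iff_isOpen_singleton_asFiber]
    have key : ∀ v : h.fiber (h w₀), j (h.fiberι (h w₀) v) = x → v = h.asFiber w₀ := fun v hv => by
      refine (h.fiberι _).isEmbedding.injective ?_
      rw [Scheme.Hom.fiberι_asFiber]
      exact j.isEmbedding.injective (hv.trans hw₀.symm)
    have hxas : j (h.fiberι (h w₀) (h.asFiber w₀)) = x := by
      rw [Scheme.Hom.fiberι_asFiber]; exact hw₀
    refine isOpen_singleton _ (fun v hv => key v ?_) fun v hv => key v ?_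
    · refine hmid _ (specializes_iff_mem_closure.mpr (hι v)) ?_ (hfib v)
      rw [← hxas]
      exact (hv.map (h.fiberι _).continuous).map j.continuous
    · refine hcl _ (hfib v) ?_
      rw [← hxas]
      exact (hv.map (h.fiberι _).continuous).map j.continuous
  obtain ⟨U, hU, hxU, -⟩ := exists_isAffineOpen_mem_and_subset (U := ⊤) (x := h w₀) trivial
  obtain ⟨W, hW, hwW, hWle⟩ := exists_isAffineOpen_mem_and_subset
    (U := h.quasiFiniteLocus ⊓ h ⁻¹ᵁ U) (x := w₀) ⟨hqf, hxU⟩
  let T : Scheme.{u} := W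
  haveI : IsReduced T := isReduced_of_isOpenImmersion W.ι
  haveI : Nonempty W := ⟨⟨w₀, hwW⟩⟩
  haveI hirrT : IrreducibleSpace T := by
    refine Subtype.irreducibleSpace (s := (W : Set I.subscheme)) ⟨⟨w₀, hwW⟩, ?_⟩
    exact (PreirreducibleSpace.isPreirreducible_univ).open_subset W.isOpen (Set.subset_univ _)
  have hηT : g₀ ∈ W := by
    have : g₀ ⤳ w₀ := j.isEmbedding.isInducing.specializes_iff.mp (by rw [hg₀, hw₀]; exact hx')
    exact this.mem_open W.isOpen hwW
  refine ⟨T, W.ι ≫ j, inferInstance, hirrT, inferInstance, ⟨⟨w₀, hwW⟩, hw₀⟩, ?_, inferInstance, ?_, ?_, ?_⟩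
  · rintro _ ⟨v, rfl⟩
    rw [← hrange]
    exact ⟨_, rfl⟩
  · rw [Category.assoc, ← Scheme.Hom.quasiFiniteLocus_eq_top_iff]
    refine top_le_iff.mp fun v _ => ?_
    rw [Scheme.Hom.mem_quasiFiniteLocus, Scheme.Hom.quasiFiniteAt_comp_iff_of_isOpenImmersion]
    exact (hWle v.2).1
  · haveI : CompactSpace T := isCompact_iff_compactSpace.mp hW.isCompact
    exact quasiCompact_of_compactSpace _
  · refine ⟨dense_iff_closure_eq.mpr (Set.eq_univ_of_univ_subset ?_)⟩
    rw [← genericPoint_closure (α := Y)]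
    refine closure_mono (Set.singleton_subset_iff.mpr ⟨⟨g₀, hηT⟩, ?_⟩)
    show f (j g₀) = _
    rw [hg₀, hgen]

end Groth.Agent.EGA43.DvrSection
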