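import Mathlib

/-! `D_f` is a field when `f` lies in every nonzero prime. -/

set_option autoImplicit false

universe u

namespace Groth.Agent.EGA43.AwayField

theorem isField_away {D : Type u} [CommRing D] [IsDomain D] {f : D} (hf : f ≠ 0)
    (h : ∀ q : Ideal D, q.IsPrime → q ≠ ⊥ → f ∈ q) : IsField (Localization.Away f) := by
  have hM : Submonoid.powers f ≤ nonZeroDivisors D := powers_le_nonZeroDivisors_of_noZeroDivisors hf
  haveI : IsDomain (Localization.Away f) := IsLocalization.isDomain_localization hM
  obtain ⟨m, hm⟩ := Ideal.exists_maximal (Localization.Away f)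
  have hq : m.comap (algebraMap D (Localization.Away f)) = ⊥ := by
    by_contra hne
    have hfm : algebraMap D (Localization.Away f) f ∈ m :=
      h _ (Ideal.comap_isPrime (algebraMap D (Localization.Away f)) m) hne
    exact hm.ne_top (Ideal.eq_top_of_isUnit_mem _ hfm (IsLocalization.Away.algebraMap_isUnit f))
  have hbot : m = ⊥ := by
    have e := IsLocalization.map_comap (Submonoid.powers f) (Localization.Away f) m
    rw [Ideal.under_def, hq, Ideal.map_bot] at e
    exact e.symm
  exact Ring.isField_iff_maximal_bot.mpr (hbot ▸ hm)

theorem fraction_finiteType {D : Type u} [CommRing D] [IsDomain D] {f : D} (hf : f ≠ 0)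
    (h : IsField (Localization.Away f)) : Algebra.FiniteType D (FractionRing D) := by
  have hM : Submonoid.powers f ≤ nonZeroDivisors D := powers_le_nonZeroDivisors_of_noZeroDivisors hf
  haveI : Algebra.FiniteType D (Localization.Away f) := inferInstance
  let φ : Localization.Away f →ₐ[D] FractionRing D :=
    IsLocalization.liftAlgHom (M := Submonoid.powers f) (S := Localization.Away f)
      (f := Algebra.ofId D (FractionRing D)) fun y => IsLocalization.map_units (FractionRing D)
        (⟨y.1, hM y.2⟩ : nonZeroDivisors D)
  refine Algebra.FiniteType.of_surjective φ fun x => ?_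
  letI := h.toField
  obtain ⟨a, b, hb, rfl⟩ := IsFractionRing.div_surjective (A := D) x
  have hb0 : algebraMap D (Localization.Away f) b ≠ 0 :=
    fun e => nonZeroDivisors.ne_zero hb
      (IsLocalization.injective (Localization.Away f) hM (by rw [e, map_zero]))
  refine ⟨algebraMap D (Localization.Away f) a * (algebraMap D (Localization.Away f) b)⁻¹, ?_⟩
  rw [eq_div_iff (by simpa using nonZeroDivisors.ne_zero hb), ← φ.commutes b, ← map_mul, mul_assoc,
    inv_mul_cancel₀ hb0, mul_one, φ.commutes]

end Groth.Agent.EGA43.AwayField
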