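import Mathlib
import Groth.Agent.EGA43.DvrSection
import Groth.Agent.GenDim.Component
import Groth.Agent.TopDim.Basic

set_option autoImplicit false
set_option backward.isDefEq.respectTransparency false
universe u

open CategoryTheory AlgebraicGeometry TopologicalSpace

namespace Groth.Agent.EGA43.EquidimSection

open Groth.Agent.EGA43.DvrSection

/-- If `x` is isolated in the fibre of `closure {x'}`, then so is `x'`. -/
theorem isolated_generization {X Y : Scheme.{u}} [IsLocallyNoetherian Y] (f : X ⟶ Y)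
    [LocallyOfFiniteType f] (x x' : X) (hx' : x' ⤳ x)
    (hcl : ∀ v : X, f v = f x → x ⤳ v → v = x)
    (hmid : ∀ w : X, x' ⤳ w → w ⤳ x → f w = f x → w = x) :
    ∃ O : Set X, IsOpen O ∧ x' ∈ O ∧ ∀ v ∈ O, x' ⤳ v → f v = f x' → v = x' := by
  haveI : IsLocallyNoetherian X := LocallyOfFiniteType.isLocallyNoetherian f
  let Z : Closeds X := ⟨closure {x'}, isClosed_closure⟩
  let I := Scheme.IdealSheafData.vanishingIdeal Z
  haveI : IsReduced I.subscheme := Groth.Agent.RatMap.Sub.isReduced_subscheme _ fun U => by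
    rw [Scheme.IdealSheafData.vanishingIdeal_ideal]
    exact PrimeSpectrum.isRadical_vanishingIdeal _
  let j := I.subschemeι
  have hrange : Set.range j.base = closure {x'} := by
    rw [show Set.range j.base = _ from I.range_subschemeι, Scheme.IdealSheafData.coe_support_vanishingIdeal]
    rfl
  obtain ⟨w₀, hw₀⟩ : x ∈ Set.range j.base := by rw [hrange]; exact hx'.mem_closure
  obtain ⟨g₀, hg₀⟩ : x' ∈ Set.range j.base := by rw [hrange]; exact subset_closure rfl
  haveI : IrreducibleSpace I.subscheme := by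
    haveI : IrreducibleSpace (closure {x'} : Set X) :=
      Subtype.irreducibleSpace isIrreducible_singleton.closure
    have e := (j.isEmbedding.toHomeomorph.trans (Homeomorph.setCongr hrange))
    exact e.symm.surjective.irreducibleSpace e.symm.continuous
  let h := j ≫ f
  haveI : LocallyOfFiniteType (h.fiberToSpecResidueField (h w₀)) :=
    MorphismProperty.pullback_snd _ _ inferInstance
  haveI : IsLocallyNoetherian (h.fiber (h w₀)) := LocallyOfFiniteType.isLocallyNoetherian (h.fiberToSpecResidueField _)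
  have hfib : ∀ v : h.fiber (h w₀), f (j (h.fiberι (h w₀) v)) = f x := fun v => by
    have : h.fiberι (h w₀) v ∈ h ⁻¹' {h w₀} := by rw [← h.range_fiberι]; exact ⟨v, rfl⟩
    have h2 : h (h.fiberι (h w₀) v) = h w₀ := this
    rw [← hw₀]; exact h2
  have hι : ∀ v : h.fiber (h w₀), j (h.fiberι (h w₀) v) ∈ closure {x'} := fun v => hrange ▸ ⟨_, rfl⟩
  have hqf : h.QuasiFiniteAt w₀ := by
    rw [Scheme.Hom.quasiFiniteAt_iff_isOpen_singleton_asFiber]
    have key : ∀ v : h.fiber (h w₀), j (h.fiberι (h w₀) v) = x → v = h.asFiber w₀ := fun v hv => by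
      refine (h.fiberι _).isEmbedding.injective ?_
      rw [Scheme.Hom.fiberι_asFiber]
      exact j.isEmbedding.injective (hv.trans hw₀.symm)
    have hxas : j (h.fiberι (h w₀) (h.asFiber w₀)) = x := by
      rw [Scheme.Hom.fiberι_asFiber]; exact hw₀
    refine isOpen_singleton _ (fun v hv => key v ?_) fun v hv => key v ?_
    · refine hmid _ (specializes_iff_mem_closure.mpr (hι v)) ?_ (hfib v)
      rw [← hxas]
      exact (hv.map (h.fiberι _).continuous).map j.continuous
    · refine hcl _ (hfib v) ?_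
      rw [← hxas]
      exact (hv.map (h.fiberι _).continuous).map j.continuous
  have hg : h.QuasiFiniteAt g₀ := by
    have : g₀ ⤳ w₀ := j.isEmbedding.isInducing.specializes_iff.mp (by rw [hg₀, hw₀]; exact hx')
    exact this.mem_open h.isOpen_quasiFiniteAt hqf
  rw [Scheme.Hom.quasiFiniteAt_iff_isOpen_singleton_asFiber] at hg
  obtain ⟨O₁, hO₁, hO₁e⟩ := (h.fiberι (h g₀)).isEmbedding.isInducing.isOpen_iff.mp hg
  obtain ⟨O, hO, hOe⟩ := j.isEmbedding.isInducing.isOpen_iff.mp hO₁
  refine ⟨O, hO, ?_, fun v hv hxv hfv => ?_⟩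
  · rw [← hg₀]
    show g₀ ∈ j ⁻¹' O
    rw [hOe]
    have := Set.ext_iff.mp hO₁e (h.asFiber g₀)
    rw [Set.mem_preimage, Scheme.Hom.fiberι_asFiber] at this
    exact this.mpr rfl
  · obtain ⟨u, rfl⟩ : v ∈ Set.range j.base := by rw [hrange]; exact hxv.mem_closure
    have hu : u ∈ O₁ := by rw [← hOe]; exact hv
    obtain ⟨u', rfl⟩ : u ∈ Set.range (h.fiberι (h g₀)) := by
      rw [h.range_fiberι]
      show f (j u) = f (j g₀)
      rw [hg₀]; exact hfv
    have := (Set.ext_iff.mp hO₁e u').mp hu
    rw [Set.mem_singleton_iff.mp this, Scheme.Hom.fiberι_asFiber]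
    exact hg₀

/-- The quasi-section, when everything is equidimensional. -/
theorem main {X Y : Scheme.{u}} [IsLocallyNoetherian Y] [IrreducibleSpace Y] (f : X ⟶ Y)
    [LocallyOfFiniteType f] (e : ℕ)
    (hdom : ∀ Z ∈ irreducibleComponents (X : Type u), closure (f.base '' Z) = Set.univ)
    (hdim : ∀ (q : X) (Z : Set ↥(f.fiber (f q))),
      Z ∈ irreducibleComponents (↥(f.fiber (f q)) : Type u) → topologicalKrullDim (↥Z : Type u) = e)
    (x : X) (hcl : ∀ v : X, f v = f x → x ⤳ v → v = x) :
    ∃ x' : X, x' ⤳ x ∧ f x' = genericPoint Y ∧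
      ∀ w : X, x' ⤳ w → w ⤳ x → f w = f x → w = x := by
  classical
  haveI : IsLocallyNoetherian X := LocallyOfFiniteType.isLocallyNoetherian f
  let R := X.presheaf.stalk x
  let F := f.fiber (f x)
  haveI : LocallyOfFiniteType (f.fiberToSpecResidueField (f x)) :=
    MorphismProperty.pullback_snd (P := @LocallyOfFiniteType) _ _ inferInstance
  haveI : IsLocallyNoetherian (f.fiber (f x)) :=
    LocallyOfFiniteType.isLocallyNoetherian (f.fiberToSpecResidueField (f x))
  let ι := f.fiberι (f x)
  let x₀ := f.asFiber x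
  have hx₀ : ι x₀ = x := f.fiberι_asFiber x
  -- the local ring of the fibre has dimension at most `e`
  let R₀ := (f.fiber (f x)).presheaf.stalk x₀
  have hR₀ : ringKrullDim R₀ ≤ (e : WithBot ℕ∞) := by
    refine iSup_le fun l => ?_
    obtain ⟨Z, hZ, hZsub⟩ := exists_preirreducible (s := ({(f.fiber (f x)).fromSpecStalk x₀ l.head} : Set _))
      isPreirreducible_singleton
    have hZc : IsClosed Z := by
      have := hZsub.2 _ hZ.closure subset_closure
      rw [← this]; exact isClosed_closure
    have hZcomp : Z ∈ irreducibleComponents (↥(f.fiber (f x)) : Type u) :=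
      ⟨⟨⟨_, hZsub.1 rfl⟩, hZ⟩, fun W hW hle => (hZsub.2 W hW.2 hle).le⟩
    rw [← hdim x Z hZcomp]
    let pts : Fin (l.length + 1) → ↥(f.fiber (f x)) := fun i => (f.fiber (f x)).fromSpecStalk x₀ (l i)
    have hpts : ∀ i j, i ≤ j → pts i ⤳ pts j := fun i j hij =>
      ((PrimeSpectrum.le_iff_specializes (l i) (l j)).mp (l.monotone hij)).map
        ((f.fiber (f x)).fromSpecStalk x₀).continuous
    have hptsZ : ∀ i, pts i ∈ Z := fun i =>
      hZc.closure_subset_iff.mpr (Set.singleton_subset_iff.mpr (hZsub.1 rfl)) ((hpts 0 i (Fin.zero_le i)).mem_closure)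
    let s : LTSeries (IrreducibleCloseds Z) := ⟨l.length,
      fun i => ⟨closure {(⟨pts i.rev, hptsZ _⟩ : Z)}, isIrreducible_singleton.closure, isClosed_closure⟩,
      fun i => by
        refine lt_of_le_of_ne (closure_minimal (Set.singleton_subset_iff.mpr ?_) isClosed_closure) fun h => ?_
        · refine Specializes.mem_closure ?_
          rw [subtype_specializes_iff]
          exact hpts _ _ (Fin.rev_le_rev.mpr (Fin.castSucc_le_succ i))
        · have h2 := h
          have h3 : (⟨pts i.castSucc.rev, hptsZ _⟩ : Z) = ⟨pts i.succ.rev, hptsZ _⟩ :=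
            (inseparable_iff_closure_eq.mpr h2).eq
          have h3' : pts i.castSucc.rev = pts i.succ.rev := by injection h3
          have h4 : l i.castSucc.rev = l i.succ.rev :=
            ((f.fiber (f x)).fromSpecStalk x₀).isEmbedding.injective h3'
          have h5 := l.strictMono.injective h4
          rw [Fin.rev_inj] at h5
          exact (Fin.castSucc_lt_succ (i := i)).ne h5⟩
    exact TopDim.Basic.length_le s
  -- parameters
  haveI : IsNoetherianRing R₀ := inferInstance
  haveI : IsNoetherianRing R := inferInstance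
  obtain ⟨S₀, hS₀, hcard⟩ := (IsLocalRing.maximalIdeal R₀).exists_finset_card_eq_height_of_isNoetherianRing
  have hcard' : S₀.card ≤ e := by
    have h1 := (IsLocalRing.maximalIdeal_height_eq_ringKrullDim (R := R₀)).le.trans hR₀
    rw [← hcard] at h1
    exact_mod_cast h1
  let φ := (ι.stalkMap x₀).hom
  have hφ : Function.Surjective φ := ι.stalkMap_surjective x₀
  -- transport to the stalk at `x`
  let R₁ := X.presheaf.stalk (ι x₀)
  let σ : R₀ → R₁ := Function.surjInv hφ
  let S₁ : Finset R₁ := S₀.image σ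
  have hS₁m : Ideal.span (S₁ : Set R₁) ≤ IsLocalRing.maximalIdeal R₁ := by
    rw [Ideal.span_le]
    intro a ha
    obtain ⟨b, hb, rfl⟩ := Finset.mem_image.mp ha
    have hb' : φ (σ b) ∈ IsLocalRing.maximalIdeal R₀ := by
      rw [Function.surjInv_eq hφ]; exact hS₀.1.2 (Ideal.subset_span hb)
    exact fun hu => hb' (hu.map φ)
  obtain ⟨P, hP, hPm⟩ := Ideal.exists_minimalPrimes_le hS₁m
  haveI := hP.1.1
  let P' : PrimeSpectrum R₁ := ⟨P, hP.1.1⟩
  let x' := X.fromSpecStalk (ι x₀) P'
  have hx'x : x' ⤳ x := by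
    have := (Set.ext_iff.mp (Scheme.range_fromSpecStalk (x := ι x₀)) x').mp ⟨P', rfl⟩
    rwa [hx₀] at this
  have hinj := (X.fromSpecStalk (ι x₀)).isEmbedding.injective
  have hPle : ∀ (Q : PrimeSpectrum R₁), x' ⤳ X.fromSpecStalk (ι x₀) Q → P ≤ Q.asIdeal := fun Q h =>
    (PrimeSpectrum.le_iff_specializes P' Q).mpr
      ((X.fromSpecStalk (ι x₀)).isEmbedding.isInducing.specializes_iff.mp h)
  have hmid : ∀ w : X, x' ⤳ w → w ⤳ x → f w = f x → w = x := by
    intro w hw hwx hwy
    obtain ⟨u, rfl⟩ : w ∈ Set.range ι := by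
      show w ∈ Set.range (f.fiberι (f x))
      rw [f.range_fiberι]; exact hwy
    have hu : u ⤳ x₀ := ι.isEmbedding.isInducing.specializes_iff.mp (by rw [hx₀]; exact hwx)
    obtain ⟨Q₀, rfl⟩ : u ∈ Set.range ((f.fiber (f x)).fromSpecStalk x₀) := by
      rw [Scheme.range_fromSpecStalk]; exact hu
    have hnat : ι ((f.fiber (f x)).fromSpecStalk x₀ Q₀) =
        X.fromSpecStalk (ι x₀) (PrimeSpectrum.comap φ Q₀) := by
      show ((f.fiber (f x)).fromSpecStalk x₀ ≫ ι) Q₀ = _
      rw [← Scheme.SpecMap_stalkMap_fromSpecStalk]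
      rfl
    have hle := hPle _ (hnat ▸ hw)
    let Q : PrimeSpectrum R₀ := Q₀
    have hmax : IsLocalRing.maximalIdeal R₀ ≤ Q.asIdeal := by
      refine hS₀.2 ⟨Q.2, Ideal.span_le.mpr fun b hb => ?_⟩ (IsLocalRing.le_maximalIdeal Q.2.ne_top)
      have : φ (σ b) ∈ Q.asIdeal := hle (hP.1.2 (Ideal.subset_span (Finset.mem_image_of_mem σ hb)))
      rwa [Function.surjInv_eq hφ] at this
    have hQ : Q = IsLocalRing.closedPoint R₀ :=
      PrimeSpectrum.ext (le_antisymm (IsLocalRing.le_maximalIdeal Q.2.ne_top) hmax)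
    show ι ((f.fiber (f x)).fromSpecStalk x₀ Q) = x
    rw [hQ]
    exact (congrArg ι Scheme.fromSpecStalk_closedPoint).trans hx₀
  refine ⟨x', hx'x, ?_, hmid⟩
  by_contra hne
  -- the fibre through `x'`
  haveI : LocallyOfFiniteType (f.fiberToSpecResidueField (f x')) :=
    MorphismProperty.pullback_snd (P := @LocallyOfFiniteType) _ _ inferInstance
  haveI : IsLocallyNoetherian (f.fiber (f x')) :=
    LocallyOfFiniteType.isLocallyNoetherian (f.fiberToSpecResidueField (f x'))
  haveI : JacobsonSpace ↥(f.fiber (f x')) := LocallyOfFiniteType.jacobsonSpace (f.fiberToSpecResidueField (f x'))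
  let z := f.asFiber x'
  have hzx : f.fiberι (f x') z = x' := f.fiberι_asFiber x'
  obtain ⟨O, hO, hxO, hOiso⟩ := isolated_generization f x x' hx'x hcl hmid
  have hzc : IsClosed ({z} : Set ↥(f.fiber (f x'))) := by
    refine isClosed_singleton_of_isLocallyClosed_singleton ?_
    have : ({z} : Set ↥(f.fiber (f x'))) = (f.fiberι (f x')) ⁻¹' O ∩ closure {z} := by
      ext u
      refine ⟨fun hu => ?_, fun ⟨hu, huz⟩ => ?_⟩
      · rw [Set.mem_singleton_iff.mp hu]
        exact ⟨by rw [Set.mem_preimage, hzx]; exact hxO, subset_closure rfl⟩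
      · refine (f.fiberι (f x')).isEmbedding.injective ?_
        rw [hzx]
        refine hOiso _ hu ?_ ((f.range_fiberι (f x')).subset ⟨u, rfl⟩)
        have h9 := (specializes_iff_mem_closure.mpr huz).map (f.fiberι (f x')).continuous
        rwa [hzx] at h9
    rw [this]
    exact (hO.preimage (f.fiberι (f x')).continuous).isLocallyClosed.inter isClosed_closure.isLocallyClosed
  obtain ⟨Z, hZcomp, hzZ⟩ : ∃ Z ∈ irreducibleComponents (↥(f.fiber (f x')) : Type u), z ∈ Z :=
    ⟨irreducibleComponent z, irreducibleComponent_mem_irreducibleComponents z, mem_irreducibleComponent⟩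
  have hstalk : (e : WithBot ℕ∞) ≤ ringKrullDim ((f.fiber (f x')).presheaf.stalk z) := by
    rw [← hdim x' Z hZcomp]
    exact GenDim.le_ringKrullDim_stalk (f.fiberToSpecResidueField (f x')) z hzc Z hZcomp.1
      (isClosed_of_mem_irreducibleComponents Z hZcomp) hzZ
  obtain ⟨l, hl⟩ := Order.le_krullDim_iff.mp hstalk
  -- push the chain to the stalk at `x`
  have hgen : ∀ i, f.fiberι (f x') ((f.fiber (f x')).fromSpecStalk z (l i)) ⤳ x' := fun i => by
    have h8 : (f.fiber (f x')).fromSpecStalk z (l i) ⤳ z :=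
      (Set.ext_iff.mp (Scheme.range_fromSpecStalk (x := z)) _).mp ⟨_, rfl⟩
    have h9 := h8.map (f.fiberι (f x')).continuous
    rwa [hzx] at h9
  have hx'ι : ∀ {p : X}, p ⤳ x' → p ∈ Set.range (X.fromSpecStalk (ι x₀)) := fun {p} hp => by
    rw [Scheme.range_fromSpecStalk, hx₀]; exact hp.trans hx'x
  choose q hq using fun i => hx'ι (hgen i)
  let q' : Fin (l.length + 1) → PrimeSpectrum R₁ := q
  have hlift : ∀ {a b : PrimeSpectrum R₁}, X.fromSpecStalk (ι x₀) a ⤳ X.fromSpecStalk (ι x₀) b →
      X.fromSpecStalk (ι x₀) a ≠ X.fromSpecStalk (ι x₀) b → a < b := fun {a b} h1 h2 =>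
    lt_of_le_of_ne ((PrimeSpectrum.le_iff_specializes a b).mpr
      ((X.fromSpecStalk (ι x₀)).isEmbedding.isInducing.specializes_iff.mp h1)) fun h => h2 (h ▸ rfl)
  have hstep : ∀ i : Fin l.length, q' i.castSucc < q' i.succ := fun i => by
    refine hlift ?_ ?_
    · rw [hq, hq]
      exact (((PrimeSpectrum.le_iff_specializes (l i.castSucc) (l i.succ)).mp (l.step i).le).map
        ((f.fiber (f x')).fromSpecStalk z).continuous).map (f.fiberι (f x')).continuous
    · rw [hq, hq]
      exact fun h => (show l i.castSucc < l i.succ from l.step i).ne (((f.fiber (f x')).fromSpecStalk z).isEmbedding.injective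
        ((f.fiberι (f x')).isEmbedding.injective h))
  let s : LTSeries (PrimeSpectrum R₁) := ⟨l.length, q', hstep⟩
  obtain ⟨M, hM, hMle⟩ := Ideal.exists_minimalPrimes_le (bot_le (a := (q' 0).asIdeal))
  let M' : PrimeSpectrum R₁ := ⟨M, hM.1.1⟩
  let ξ := X.fromSpecStalk (ι x₀) M'
  have hξmax : ∀ p : X, p ⤳ ξ → p = ξ := fun p hp => by
    obtain ⟨a, rfl⟩ : p ∈ Set.range (X.fromSpecStalk (ι x₀)) := by
      rw [Scheme.range_fromSpecStalk]
      exact hp.trans ((Set.ext_iff.mp (Scheme.range_fromSpecStalk (x := ι x₀)) ξ).mp ⟨M', rfl⟩)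
    have h1 := (X.fromSpecStalk (ι x₀)).isEmbedding.isInducing.specializes_iff.mp hp
    let a' : PrimeSpectrum R₁ := a
    have h2 : a' ≤ M' := (PrimeSpectrum.le_iff_specializes a' M').mpr h1
    exact congrArg _ (show a' = M' from PrimeSpectrum.ext (le_antisymm h2 (hM.2 ⟨a'.2, bot_le⟩ h2)))
  have hξη : f ξ = genericPoint Y := by
    obtain ⟨Zc, hZc, hξZ⟩ : ∃ Zc ∈ irreducibleComponents (X : Type u), ξ ∈ Zc :=
      ⟨irreducibleComponent ξ, irreducibleComponent_mem_irreducibleComponents ξ, mem_irreducibleComponent⟩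
    have hc := isClosed_of_mem_irreducibleComponents Zc hZc
    have hg : hZc.1.genericPoint = ξ := hξmax _ (specializes_iff_mem_closure.mpr (by
      rw [hZc.1.genericPoint_closure_eq, hc.closure_eq]; exact hξZ))
    have h2 : closure ({f ξ} : Set Y) = Set.univ := by
      refine Set.eq_univ_of_univ_subset ?_
      rw [← hdom Zc hZc]
      refine closure_minimal ?_ isClosed_closure
      rw [← hc.closure_eq, ← hZc.1.genericPoint_closure_eq, hg]
      refine (image_closure_subset_closure_image f.continuous).trans ?_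
      rw [Set.image_singleton]
    exact IsGenericPoint.eq (show IsGenericPoint (f ξ) (Set.univ : Set Y) from h2) (genericPoint_spec Y)
  have hM0 : M' < q' 0 := lt_of_le_of_ne hMle fun h => hne (by
    have h1 : f (X.fromSpecStalk (ι x₀) (q' 0)) = f x' := by
      rw [show X.fromSpecStalk (ι x₀) (q' 0) = _ from hq 0]
      exact (f.range_fiberι (f x')).subset ⟨_, rfl⟩
    rw [← h1, ← h]; exact hξη)
  have hlast : s.last ≤ P' := (PrimeSpectrum.le_iff_specializes _ _).mpr
    ((X.fromSpecStalk (ι x₀)).isEmbedding.isInducing.specializes_iff.mp (by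
      show X.fromSpecStalk (ι x₀) (q' _) ⤳ x'
      rw [show X.fromSpecStalk (ι x₀) (q' _) = _ from hq _]; exact hgen _))
  have h1 : ((e + 1 : ℕ) : ℕ∞) ≤ P.height := by
    rw [show P.height = Order.height P' from PrimeSpectrum.height_eq_orderHeight P', ← hl]
    have h0 := Order.length_le_height (p := s.cons M' hM0) (x := P') (by rw [RelSeries.last_cons]; exact hlast)
    simpa [s] using h0
  have h2 : P.height ≤ (S₁.card : ℕ∞) := Ideal.height_le_card_of_mem_minimalPrimes_span_finset hP
  have h3 : S₁.card ≤ e := Finset.card_image_le.trans hcard'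
  have := h1.trans h2
  rw [Nat.cast_le] at this
  omega

end Groth.Agent.EGA43.EquidimSection
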