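import Mathlib
import Groth.Agent.Hensel.Decomp
import Groth.Agent.EGA43.EquidimSection
import Groth.Prelude.Def_EGA43

set_option autoImplicit false
set_option backward.isDefEq.respectTransparency false
universe u

open CategoryTheory AlgebraicGeometry TopologicalSpace

namespace Groth.Agent.EGA43.CompleteSection

/-- A domain finite over a henselian local ring is local. -/
theorem isLocalRing_of_finite (A B : Type u) [CommRing A] [CommRing B] [Algebra A B] [HenselianLocalRing A]
    [IsDomain B] [Module.Finite A B] : IsLocalRing B := by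
  classical
  obtain ⟨M, hM⟩ := Ideal.exists_maximal B
  refine IsLocalRing.of_unique_max_ideal ⟨M, hM, fun N hN => ?_⟩
  by_contra hne
  obtain ⟨_, e, hc, he⟩ := Hensel.Decomp.exists_finite_decomposition (R := A) (S := B)
  let M' : MaximalSpectrum B := ⟨M, hM⟩
  let N' : MaximalSpectrum B := ⟨N, hN⟩
  have hMN : M' ≠ N' := fun h => hne (congrArg MaximalSpectrum.asIdeal h).symm
  rcases IsIdempotentElem.iff_eq_zero_or_one.mp (hc.idem M') with h | h
  · exact (he M' M').mpr rfl (h ▸ zero_mem _)
  · exact hMN ((he M' N').mp (h ▸ fun h1 => N'.isMaximal.ne_top ((Ideal.eq_top_iff_one _).mpr h1)))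

theorem henselianLocalRing (A : Type u) [CommRing A] [IsLocalRing A]
    [IsAdicComplete (IsLocalRing.maximalIdeal A) A] : HenselianLocalRing A where
  is_henselian f hf a₀ h₁ h₂ :=
    HenselianRing.is_henselian (I := IsLocalRing.maximalIdeal A) f hf a₀ h₁ (h₂.map _)

/-- A quasi-finite finite type domain with a prime above the closed point over a complete local domain
is finite and local. -/
theorem finite_of_quasiFiniteAt (A C : Type u) [CommRing A] [IsLocalRing A] [HenselianLocalRing A]
    [CommRing C] [IsDomain C] [Algebra A C] [Algebra.FiniteType A C]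
    (Q : Ideal C) [Q.IsPrime] [Algebra.QuasiFiniteAt A Q] (hQ : Q.under A = IsLocalRing.maximalIdeal A) :
    Module.Finite A C ∧ IsLocalRing C := by
  obtain ⟨S', hS', r, hr, hbij⟩ :=
    Algebra.QuasiFiniteAt.exists_fg_and_exists_notMem_and_awayMap_bijective (R := A) Q
  haveI hfin : Module.Finite A S' := ⟨(Submodule.fg_top _).mpr hS'⟩
  haveI : IsLocalRing S' := isLocalRing_of_finite A S'
  let Q' : Ideal S' := Q.comap S'.val
  haveI : Q'.IsMaximal := by
    refine Ideal.isMaximal_of_isIntegral_of_isMaximal_comap (R := A) Q' ?_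
    rw [show Q'.comap (algebraMap A S') = Q.under A from rfl, hQ]
    infer_instance
  have hru : IsUnit r := by
    by_contra h
    exact hr (show r ∈ Q' from (IsLocalRing.eq_maximalIdeal ‹Q'.IsMaximal›) ▸ h)
  have hru' : IsUnit (S'.val.toRingHom r) := hru.map S'.val.toRingHom
  have htop : ∀ c : C, c ∈ S' := fun c => by
    obtain ⟨z, hz⟩ := hbij.2 (algebraMap C _ c)
    haveI := IsLocalization.away_of_isUnit_of_bijective S' hru Function.bijective_id
    obtain ⟨s, rfl⟩ := (IsLocalization.atUnits S' (Submonoid.powers r)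
      (S := Localization.Away r) (fun y ⟨n, hn⟩ => hn ▸ hru.pow n)).surjective z
    have hinj : Function.Injective (algebraMap C (Localization.Away (S'.val.toRingHom r))) :=
      (IsLocalization.atUnits C (Submonoid.powers (S'.val.toRingHom r)) (S := Localization.Away (S'.val.toRingHom r))
        (fun y ⟨n, hn⟩ => hn ▸ hru'.pow n)).injective
    have h2 : algebraMap C (Localization.Away (S'.val.toRingHom r)) (S'.val s) = algebraMap C _ c := by
      rw [← hz]
      exact (IsLocalization.map_eq _ _).symm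
    rw [← hinj h2]
    exact s.2
  have htop' : S' = ⊤ := eq_top_iff.mpr fun c _ => htop c
  refine ⟨Module.Finite.of_surjective S'.val.toLinearMap fun c => ⟨⟨c, htop c⟩, rfl⟩, ?_⟩
  exact IsLocalRing.of_surjective' S'.val.toRingHom fun c => ⟨⟨c, htop c⟩, rfl⟩

set_option maxHeartbeats 1000000 in
theorem exists_section {A : Type u} [CommRing A] [IsDomain A] [IsNoetherianRing A] [IsLocalRing A]
    [IsAdicComplete (IsLocalRing.maximalIdeal A) A] {X : Scheme.{u}}
    (f : X ⟶ Spec (CommRingCat.of A)) [LocallyOfFiniteType f] (x : X)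
    (hx : f.base x = IsLocalRing.closedPoint A)
    (hf : EGA43.IsEquidimAt f x) (hcl : ∀ x' : X, f.base x' = f.base x → x ⤳ x' → x' = x) :
    ∃ (A' : Type u) (_ : CommRing A') (_ : IsDomain A') (_ : IsLocalRing A') (_ : Algebra A A') (_ : Module.Finite A A'),
      Function.Injective (algebraMap A A') ∧
      ∃ h : Spec (CommRingCat.of A') ⟶ X, h ≫ f = Spec.map (CommRingCat.ofHom (algebraMap A A')) ∧
        IsImmersion h ∧ x ∈ Set.range h.base := by
  haveI := henselianLocalRing A
  obtain ⟨e, U, hxU, hcomp, hfib⟩ := hf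
  let u : (U : Scheme.{u}) := (⟨x, hxU⟩ : U)
  have hu : U.ι.base u = x := rfl
  have hcl' : ∀ v : (U : Scheme.{u}), (U.ι ≫ f) v = (U.ι ≫ f) u → u ⤳ v → v = u := fun v hv huv =>
    U.ι.isOpenEmbedding.injective (hcl _ hv (huv.map U.ι.continuous))
  obtain ⟨x', h1, h2, h3⟩ := EquidimSection.main (U.ι ≫ f) e (fun Z hZ => by
    obtain ⟨W, hW, -, hWc⟩ := hcomp Z hZ
    rw [irreducibleComponents_eq_singleton] at hW
    rw [hWc, Set.mem_singleton_iff.mp hW]) (fun q Z hZ => hfib q Z hZ) u hcl'
  obtain ⟨T, i, hi1, hi2, hi3, hi4, -, hi6, hi7, hi8, hi9⟩ :=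
    DvrSection.exists_section (U.ι ≫ f) u x' h1 h2 hcl' h3
  obtain ⟨t, ht⟩ := hi4
  haveI : IsIntegral T := isIntegral_of_irreducibleSpace_of_isReduced T
  obtain ⟨W, hW, htW, -⟩ := exists_isAffineOpen_mem_and_subset (X := T) (U := ⊤) (x := t) trivial
  haveI : Nonempty W := ⟨⟨t, htW⟩⟩
  let C := Γ(T, W)
  haveI : IsDomain C := IsIntegral.component_integral W
  let k : Spec C ⟶ Spec (CommRingCat.of A) := hW.fromSpec ≫ i ≫ U.ι ≫ f
  let φ : CommRingCat.of A ⟶ C := Spec.preimage k
  have hφ : Spec.map φ = k := Spec.map_preimage k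
  haveI : LocallyOfFiniteType k := inferInstance
  haveI : LocallyQuasiFinite k := inferInstance
  letI : Algebra A C := φ.hom.toAlgebra
  haveI : Algebra.FiniteType A C :=
    (HasRingHomProperty.Spec_iff (P := @LocallyOfFiniteType) (φ := φ)).mp (hφ.symm ▸ ‹LocallyOfFiniteType k›)
  haveI : Algebra.QuasiFinite A C :=
    (HasRingHomProperty.Spec_iff (P := @LocallyQuasiFinite) (φ := φ)).mp (hφ.symm ▸ ‹LocallyQuasiFinite k›)
  obtain ⟨Q', hQ'⟩ := hW.range_fromSpec.superset htW
  let Q : PrimeSpectrum C := Q'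
  replace hQ' : hW.fromSpec Q = t := hQ'
  haveI := Q.2
  have hkQ : k Q = IsLocalRing.closedPoint A := by
    show f (U.ι (i (hW.fromSpec Q))) = _
    rw [hQ', ht, hu]; exact hx
  have hQA : Q.asIdeal.under A = IsLocalRing.maximalIdeal A := by
    rw [← hφ] at hkQ
    exact congrArg PrimeSpectrum.asIdeal hkQ
  obtain ⟨hfin, hloc⟩ := finite_of_quasiFiniteAt A C Q.asIdeal hQA
  refine ⟨C, inferInstance, inferInstance, hloc, inferInstance, hfin, ?_, hW.fromSpec ≫ i ≫ U.ι, ?_, inferInstance, ⟨Q, ?_⟩⟩
  · -- injectivity from dominance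
    haveI := hi9
    haveI : IsDominant hW.fromSpec := by
      refine ⟨dense_iff_closure_eq.mpr ?_⟩
      have : Set.range hW.fromSpec.base = (W : Set T) := hW.range_fromSpec
      rw [this]
      exact (W.isOpen.dense ⟨t, htW⟩).closure_eq
    haveI : IsDominant k := by
      show IsDominant (hW.fromSpec ≫ (i ≫ U.ι ≫ f))
      infer_instance
    rw [injective_iff_map_eq_zero]
    intro a ha
    by_contra hne
    obtain ⟨z, hz, ⟨c, rfl⟩⟩ := k.denseRange.inter_open_nonempty
      (PrimeSpectrum.basicOpen a : Set (PrimeSpectrum A)) (PrimeSpectrum.basicOpen a).isOpen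
      ⟨⟨⊥, Ideal.isPrime_bot⟩, fun h => hne (Ideal.mem_bot.mp h)⟩
    rw [← hφ] at hz
    refine hz (show φ.hom a ∈ (c : PrimeSpectrum C).asIdeal from ?_)
    rw [show φ.hom a = 0 from ha]
    exact Ideal.zero_mem _
  · rw [Category.assoc, Category.assoc]
    exact hφ.symm
  · show U.ι (i (hW.fromSpec Q)) = x
    rw [hQ', ht, hu]

end Groth.Agent.EGA43.CompleteSection
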