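import Mathlib
import Groth.Agent.EGA43.CompleteSection
import Groth.Agent.Misc9.DimOne

/-! Finite extensions and completions of discrete valuation rings. -/

set_option autoImplicit false
set_option backward.isDefEq.respectTransparency false
universe u
open IsLocalRing

namespace Groth.Agent.EGA43.DvrFinite

/-- A complete local ring with principal non-nilpotent maximal ideal is a DVR. -/
theorem dvr_of_principal (R : Type u) [CommRing R] [IsLocalRing R] [IsHausdorff (maximalIdeal R) R] (π : R)
    (hπ : maximalIdeal R = Ideal.span {π}) (hne : ∀ n : ℕ, π ^ n ≠ 0) :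
    ∃ _ : IsDomain R, IsDiscreteValuationRing R := by
  have hfac : ∀ x : R, x ≠ 0 → ∃ n : ℕ, Associated (π ^ n) x := fun x hx => by
    classical
    have : ∃ n : ℕ, ¬ π ^ n ∣ x := by
      by_contra h
      push Not at h
      refine hx (IsHausdorff.haus ‹_› x fun n => ?_)
      rw [SModEq.zero, smul_eq_mul, Ideal.mul_top, hπ, Ideal.span_singleton_pow,
        Ideal.mem_span_singleton]
      exact h n
    have h0 : Nat.find this ≠ 0 := fun h => Nat.find_spec this (by rw [h, pow_zero]; exact one_dvd _)
    obtain ⟨u, hu⟩ := not_not.mp (Nat.find_min this (Nat.sub_lt (Nat.pos_of_ne_zero h0) Nat.one_pos))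
    have hspec := Nat.find_spec this
    generalize Nat.find this = N at h0 hu hspec
    have huu : IsUnit u := by
      by_contra hu'
      obtain ⟨w, rfl⟩ := Ideal.mem_span_singleton.mp (hπ ▸ ((mem_maximalIdeal u).mpr hu') : u ∈ Ideal.span {π})
      refine hspec ⟨w, ?_⟩
      rw [hu, ← mul_assoc, ← pow_succ, Nat.sub_add_cancel (Nat.pos_of_ne_zero h0)]
    exact ⟨_, huu.unit, by rw [hu]; rfl⟩
  haveI hdom : IsDomain R := by
    refine @NoZeroDivisors.to_isDomain R _ inferInstance ⟨fun {x y} hxy => ?_⟩
    by_contra h
    push Not at h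
    obtain ⟨a, u, rfl⟩ := hfac x h.1
    obtain ⟨b, v, rfl⟩ := hfac y h.2
    refine hne (a + b) ?_
    rw [mul_mul_mul_comm, ← pow_add] at hxy
    exact (u.isUnit.mul v.isUnit).mul_left_eq_zero.mp hxy
  refine ⟨hdom, IsDiscreteValuationRing.ofHasUnitMulPowIrreducibleFactorization ⟨π, ?_, fun {x} hx => hfac x hx⟩⟩
  refine ⟨fun hu => ?_, fun a b hab => ?_⟩
  · exact (maximalIdeal.isMaximal R).ne_top (by rw [hπ, Ideal.span_singleton_eq_top]; exact hu)
  · by_contra h
    push Not at h
    obtain ⟨a', rfl⟩ := Ideal.mem_span_singleton.mp (hπ ▸ ((mem_maximalIdeal a).mpr h.1) : a ∈ Ideal.span {π})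
    obtain ⟨b', rfl⟩ := Ideal.mem_span_singleton.mp (hπ ▸ ((mem_maximalIdeal b).mpr h.2) : b ∈ Ideal.span {π})
    have h1 : π * (π * (a' * b') - 1) = 0 := by linear_combination -hab
    have hπ0 : π ≠ 0 := fun h => hne 1 (by rw [pow_one, h])
    refine h.1 ((mul_eq_zero.mp h1).resolve_left hπ0 |> fun h2 => ?_)
    exact absurd (IsUnit.of_mul_eq_one (a' * b') (sub_eq_zero.mp h2)) (fun hu =>
      (maximalIdeal.isMaximal R).ne_top (by rw [hπ, Ideal.span_singleton_eq_top]; exact hu))

/-- Finite products of precomplete modules. -/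
theorem isPrecomplete_pi {R : Type u} [CommRing R] (I : Ideal R) [IsPrecomplete I R] (n : ℕ) :
    IsPrecomplete I (Fin n → R) := by
  classical
  constructor
  intro f hf
  have hcomp : ∀ i, ∃ L, ∀ k, f k i ≡ L [SMOD (I ^ k • ⊤ : Submodule R R)] := fun i =>
    IsPrecomplete.prec' _ fun {m k} hmk => SModEq.sub_mem.mpr (by
      have h := SModEq.sub_mem.mp (hf hmk)
      have h2 := Submodule.mem_map_of_mem (f := LinearMap.proj i) h
      rw [Submodule.map_smul''] at h2
      exact Submodule.smul_mono le_rfl le_top h2)
  choose L hL using hcomp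
  refine ⟨L, fun k => SModEq.sub_mem.mpr ?_⟩
  rw [← Finset.univ_sum_single (f k - L)]
  refine Submodule.sum_mem _ fun i _ => ?_
  have h := Submodule.mem_map_of_mem (f := LinearMap.single R (fun _ : Fin n => R) i) (SModEq.sub_mem.mp (hL i k))
  rw [Submodule.map_smul''] at h
  exact Submodule.smul_mono le_rfl le_top h

/-- The normalization of a finite extension of a complete DVR is a finite DVR. -/
theorem exists_dvr_over (A C : Type u) [CommRing A] [IsDomain A] [IsDiscreteValuationRing A]
    [IsAdicComplete (maximalIdeal A) A] [CommRing C] [IsDomain C] [Algebra A C] [Module.Finite A C]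
    (hinj : Function.Injective (algebraMap A C)) :
    ∃ (B : Type u) (_ : CommRing B) (_ : IsDomain B) (_ : IsDiscreteValuationRing B) (ι : C →+* B),
      Function.Injective ι ∧ (ι.comp (algebraMap A C)).Finite := by
  haveI := CompleteSection.henselianLocalRing A
  haveI : FaithfulSMul A C := (faithfulSMul_iff_algebraMap_injective _ _).mpr hinj
  letI := FractionRing.liftAlgebra A (FractionRing C)
  haveI : IsScalarTower A (FractionRing A) (FractionRing C) := inferInstance
  haveI : FiniteDimensional (FractionRing A) (FractionRing C) := .of_isLocalization A C (nonZeroDivisors A)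
  let L := FractionRing C
  let B := integralClosure A L
  haveI : Ring.KrullDimLE 1 A := inferInstance
  haveI hnoeth : IsNoetherianRing B := Misc9.DimOne.isNoetherianRing A (FractionRing A) L (C := B)
  haveI hdim1 : Ring.DimensionLEOne B := Misc9.DimOne.dimensionLEOne A (FractionRing A) L (C := B)
  haveI : IsFractionRing B L :=
    IsIntegralClosure.isFractionRing_of_finite_extension A (FractionRing A) L B
  haveI : IsIntegrallyClosed B := integralClosure.isIntegrallyClosedOfFiniteExtension (FractionRing A)
  haveI : Algebra.IsIntegral A B := IsIntegralClosure.isIntegral_algebra A L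
  obtain ⟨π, hπ⟩ := IsDiscreteValuationRing.exists_irreducible A
  have hm : maximalIdeal A = Ideal.span {π} := hπ.maximalIdeal_eq
  have hπB : ¬ IsUnit (algebraMap A B π) := fun hu => by
    haveI : FaithfulSMul A B := (faithfulSMul_iff_algebraMap_injective _ _).mpr (fun a b h => by
      have h2 := congrArg Subtype.val h
      exact hinj (IsFractionRing.injective C L (by simpa [IsScalarTower.algebraMap_apply A C L] using h2)))
    obtain ⟨Q, hQ⟩ := Ideal.exists_maximal B
    have hQm : Q.comap (algebraMap A B) = maximalIdeal A :=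
      IsLocalRing.eq_maximalIdeal (Ideal.isMaximal_comap_of_isIntegral_of_isMaximal (R := A) Q)
    have h2 : algebraMap A B π ∈ Q := by
      rw [← Ideal.mem_comap, hQm, hm]; exact Ideal.mem_span_singleton_self π
    exact hQ.ne_top (Ideal.eq_top_of_isUnit_mem _ h2 hu)
  have hmB : (maximalIdeal A).map (algebraMap A B) = Ideal.span {algebraMap A B π} := by
    rw [hm, Ideal.map_span, Set.image_singleton]
  haveI : IsHausdorff ((maximalIdeal A).map (algebraMap A B)) B := by
    rw [hmB]
    exact IsHausdorff.of_isDomain (I := Ideal.span {algebraMap A B π}) (fun h => hπB (Ideal.span_singleton_eq_top.mp h))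
  haveI : IsHausdorff (maximalIdeal A) B := IsHausdorff.map_algebraMap_iff.mp ‹_›
  haveI hfinq : Module.Finite A (B ⧸ Ideal.span {algebraMap A B π}) := by
    have h := Misc9.KA.isFiniteLength_quotient_span (B := A) (C := B) (FractionRing A) L hπ.ne_zero
    haveI := (isFiniteLength_iff_isNoetherian_isArtinian.1 h).1
    infer_instance
  obtain ⟨n, g, hg⟩ := Module.Finite.exists_fin' A (B ⧸ Ideal.span {algebraMap A B π})
  obtain ⟨f, hf⟩ := Module.projective_lifting_property
    (Submodule.mkQ ((Ideal.span {algebraMap A B π}).restrictScalars A)) g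
    (Submodule.mkQ_surjective _)
  haveI := isPrecomplete_pi (maximalIdeal A) n
  have hsurj : Function.Surjective f := by
    refine surjective_of_mkQ_comp_surjective (I := maximalIdeal A) ?_
    rw [Ideal.smul_top_eq_map, hmB, hf]
    exact hg
  haveI : Module.Finite A B := Module.Finite.of_surjective f hsurj
  haveI : IsLocalRing B := CompleteSection.isLocalRing_of_finite A B
  haveI : IsDedekindDomain B := {}
  have hnf : ¬ IsField B := fun h => by
    have h0 : algebraMap A B π ≠ 0 := fun h0 => hπ.ne_zero (hinj (IsFractionRing.injective C L (by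
      simpa [IsScalarTower.algebraMap_apply A C L] using congrArg Subtype.val h0)))
    obtain ⟨b, hb⟩ := h.mul_inv_cancel h0
    exact hπB (IsUnit.of_mul_eq_one b hb)
  have hdvr : IsDiscreteValuationRing B :=
    ((IsDiscreteValuationRing.TFAE B hnf).out 2 0).mp ‹IsDedekindDomain B›
  have hCB : ∀ c : C, algebraMap C L c ∈ B := fun c => (Algebra.IsIntegral.isIntegral (R := A) c).algebraMap
  let ι : C →+* B := (algebraMap C L).codRestrict B.toSubring hCB
  refine ⟨B, inferInstance, inferInstance, hdvr, ι, fun a b h => IsFractionRing.injective C L (congrArg Subtype.val h), ?_⟩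
  have : ι.comp (algebraMap A C) = algebraMap A B := RingHom.ext fun a => Subtype.ext
    (IsScalarTower.algebraMap_apply A C L a).symm
  rw [this]
  exact RingHom.finite_algebraMap.mpr inferInstance

end Groth.Agent.EGA43.DvrFinite
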