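import Mathlib
import Groth.Agent.EGA43.DvrSection
import Groth.Agent.EGA43.CompleteSection

/-! Finite local domains through a special point with prescribed generization, over a complete base. -/

set_option autoImplicit false
set_option backward.isDefEq.respectTransparency false
universe u
open CategoryTheory AlgebraicGeometry TopologicalSpace

namespace Groth.Agent.EGA43.FiniteThrough

/-- Two morphisms from a point which agree on the image and after composition with a morphism to an affine
scheme, with surjective ring map, are equal; and the image point is closed in its affine neighbourhoods. -/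
theorem point_ext {P : Scheme.{u}} {A K : Type u} [CommRing A] [Field K] (q : P ⟶ Spec (CommRingCat.of A))
    (θ : A →+* K) (hθ : Function.Surjective θ) (s t : Spec (CommRingCat.of K) ⟶ P)
    (hs : s ≫ q = Spec.map (CommRingCat.ofHom θ)) (ht : t ≫ q = Spec.map (CommRingCat.ofHom θ))
    (hp : s (IsLocalRing.closedPoint K) = t (IsLocalRing.closedPoint K)) : s = t := by
  obtain ⟨W, hW, hxW, -⟩ := exists_isAffineOpen_mem_and_subset (X := P) (U := ⊤)
    (x := s (IsLocalRing.closedPoint K)) trivial
  have hsub : ∀ r : Spec (CommRingCat.of K) ⟶ P, r (IsLocalRing.closedPoint K) ∈ W →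
      Set.range r ⊆ Set.range hW.fromSpec := by
    rintro r hr _ ⟨c, rfl⟩
    rw [hW.range_fromSpec, show c = IsLocalRing.closedPoint K from Subsingleton.elim _ _]
    exact hr
  let s' := Spec.preimage (IsOpenImmersion.lift hW.fromSpec s (hsub s hxW))
  let t' := Spec.preimage (IsOpenImmersion.lift hW.fromSpec t (hsub t (hp ▸ hxW)))
  let ψ := Spec.preimage (hW.fromSpec ≫ q)
  have hs' : Spec.map s' ≫ hW.fromSpec = s := by simp [s']
  have ht' : Spec.map t' ≫ hW.fromSpec = t := by simp [t']
  have h1 : ψ ≫ s' = CommRingCat.ofHom θ := by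
    apply Spec.map_injective
    rw [Spec.map_comp, show Spec.map ψ = _ from Spec.map_preimage _, ← Category.assoc, hs', hs]
  have h2 : ψ ≫ t' = CommRingCat.ofHom θ := by
    apply Spec.map_injective
    rw [Spec.map_comp, show Spec.map ψ = _ from Spec.map_preimage _, ← Category.assoc, ht', ht]
  have hker : RingHom.ker s'.hom = RingHom.ker t'.hom := by
    have h : Spec.map s' (IsLocalRing.closedPoint K) = Spec.map t' (IsLocalRing.closedPoint K) :=
      hW.fromSpec.isOpenEmbedding.injective (by
        rw [← Scheme.Hom.comp_apply, ← Scheme.Hom.comp_apply, hs', ht']; exact hp)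
    have h' := congrArg PrimeSpectrum.asIdeal h
    change Ideal.comap s'.hom (IsLocalRing.maximalIdeal K) = Ideal.comap t'.hom (IsLocalRing.maximalIdeal K) at h'
    rwa [IsLocalRing.maximalIdeal_eq_bot] at h'
  rw [← hs', ← ht']
  congr 2
  ext r
  obtain ⟨a, ha⟩ := hθ (s'.hom r)
  have e1 : s'.hom (ψ.hom a) = θ a := congrArg (fun f => f.hom a) h1
  have e2 : t'.hom (ψ.hom a) = θ a := congrArg (fun f => f.hom a) h2
  have h3 : r - ψ.hom a ∈ RingHom.ker t'.hom := by
    rw [← hker, RingHom.mem_ker, map_sub, e1, ha, sub_self]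
  rw [RingHom.mem_ker, map_sub, sub_eq_zero, e2, ha] at h3
  exact h3.symm

/-- The image of such a point has no proper specialization in its fibre. -/
theorem point_closed {P : Scheme.{u}} {A K : Type u} [CommRing A] [Field K] (q : P ⟶ Spec (CommRingCat.of A))
    (θ : A →+* K) (hθ : Function.Surjective θ) (s : Spec (CommRingCat.of K) ⟶ P)
    (hs : s ≫ q = Spec.map (CommRingCat.ofHom θ)) (v : P)
    (hv : s (IsLocalRing.closedPoint K) ⤳ v) : v = s (IsLocalRing.closedPoint K) := by
  obtain ⟨W, hW, hxW, -⟩ := exists_isAffineOpen_mem_and_subset (X := P) (U := ⊤) (x := v) trivial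
  have hsub : Set.range s ⊆ Set.range hW.fromSpec := by
    rintro _ ⟨c, rfl⟩
    rw [hW.range_fromSpec, show c = IsLocalRing.closedPoint K from Subsingleton.elim _ _]
    exact hv.mem_open W.isOpen hxW
  let s' := Spec.preimage (IsOpenImmersion.lift hW.fromSpec s hsub)
  let ψ := Spec.preimage (hW.fromSpec ≫ q)
  have hs' : Spec.map s' ≫ hW.fromSpec = s := by simp [s']
  have h1 : ψ ≫ s' = CommRingCat.ofHom θ := by
    apply Spec.map_injective
    rw [Spec.map_comp, show Spec.map ψ = _ from Spec.map_preimage _, ← Category.assoc, hs', hs]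
  have hsurj : Function.Surjective s'.hom := fun k => by
    obtain ⟨a, rfl⟩ := hθ k
    exact ⟨ψ.hom a, congrArg (fun f => f.hom a) h1⟩
  obtain ⟨Q, rfl⟩ := hW.range_fromSpec.superset hxW
  rw [← hs'] at hv ⊢
  rw [Scheme.Hom.comp_apply] at hv ⊢
  rw [hW.fromSpec.isOpenEmbedding.isInducing.specializes_iff] at hv
  congr 1
  have hm : (Spec.map s' (IsLocalRing.closedPoint K)).asIdeal.IsMaximal :=
    Ideal.comap_isMaximal_of_surjective s'.hom hsurj
  exact (PrimeSpectrum.ext (hm.eq_of_le Q.2.ne_top ((PrimeSpectrum.le_iff_specializes _ _).mpr hv))).symm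

set_option maxHeartbeats 1000000 in
theorem exists_finite {A : Type u} [CommRing A] [IsDomain A] [IsNoetherianRing A] [IsLocalRing A]
    [IsAdicComplete (IsLocalRing.maximalIdeal A) A] {X : Scheme.{u}}
    (f : X ⟶ Spec (CommRingCat.of A)) [LocallyOfFiniteType f] (x x' : X)
    (hx : f x = IsLocalRing.closedPoint A) (h1 : x' ⤳ x)
    (h2 : f x' = genericPoint ↥(Spec (CommRingCat.of A)))
    (hcl : ∀ v : X, f v = f x → x ⤳ v → v = x)
    (h3 : ∀ w : X, x' ⤳ w → w ⤳ x → f w = f x → w = x) :
    ∃ (A' : Type u) (_ : CommRing A') (_ : IsDomain A') (_ : IsLocalRing A') (_ : Algebra A A') (_ : Module.Finite A A'),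
      Function.Injective (algebraMap A A') ∧
      ∃ h : Spec (CommRingCat.of A') ⟶ X, h ≫ f = Spec.map (CommRingCat.ofHom (algebraMap A A')) ∧
        h (IsLocalRing.closedPoint A') = x := by
  haveI := CompleteSection.henselianLocalRing A
  obtain ⟨T, i, hi1, hi2, hi3, hi4, -, hi6, hi7, hi8, hi9⟩ :=
    DvrSection.exists_section f x x' h1 h2 hcl h3
  obtain ⟨t, ht⟩ := hi4
  haveI : IsIntegral T := isIntegral_of_irreducibleSpace_of_isReduced T
  obtain ⟨W, hW, htW, -⟩ := exists_isAffineOpen_mem_and_subset (X := T) (U := ⊤) (x := t) trivial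
  haveI : Nonempty W := ⟨⟨t, htW⟩⟩
  let C := Γ(T, W)
  haveI : IsDomain C := IsIntegral.component_integral W
  let k : Spec C ⟶ Spec (CommRingCat.of A) := hW.fromSpec ≫ i ≫ f
  let φ : CommRingCat.of A ⟶ C := Spec.preimage k
  have hφ : Spec.map φ = k := Spec.map_preimage k
  haveI : LocallyOfFiniteType k := inferInstance
  haveI : LocallyQuasiFinite k := inferInstance
  letI : Algebra A C := φ.hom.toAlgebra
  haveI : Algebra.FiniteType A C :=
    (HasRingHomProperty.Spec_iff (P := @LocallyOfFiniteType) (φ := φ)).mp (hφ.symm ▸ ‹LocallyOfFiniteType k›)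
  haveI : Algebra.QuasiFinite A C :=
    (HasRingHomProperty.Spec_iff (P := @LocallyQuasiFinite) (φ := φ)).mp (hφ.symm ▸ ‹LocallyQuasiFinite k›)
  obtain ⟨Q', hQ'⟩ := hW.range_fromSpec.superset htW
  let Q : PrimeSpectrum C := Q'
  replace hQ' : hW.fromSpec Q = t := hQ'
  haveI := Q.2
  have hkQ : k Q = IsLocalRing.closedPoint A := by
    show f (i (hW.fromSpec Q)) = _
    rw [hQ', ht]; exact hx
  have hQA : Q.asIdeal.under A = IsLocalRing.maximalIdeal A := by
    rw [← hφ] at hkQ
    exact congrArg PrimeSpectrum.asIdeal hkQ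
  obtain ⟨hfin, hloc⟩ := CompleteSection.finite_of_quasiFiniteAt A C Q.asIdeal hQA
  haveI : Q.asIdeal.IsMaximal :=
    Ideal.isMaximal_of_isIntegral_of_isMaximal_comap (R := A) Q.asIdeal (by
      rw [show Q.asIdeal.comap (algebraMap A C) = Q.asIdeal.under A from rfl, hQA]; infer_instance)
  refine ⟨C, inferInstance, inferInstance, hloc, inferInstance, hfin, ?_, hW.fromSpec ≫ i, ?_, ?_⟩
  · haveI := hi9
    haveI : IsDominant hW.fromSpec := by
      refine ⟨dense_iff_closure_eq.mpr ?_⟩
      have : Set.range hW.fromSpec.base = (W : Set T) := hW.range_fromSpec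
      rw [this]
      exact (W.isOpen.dense ⟨t, htW⟩).closure_eq
    haveI : IsDominant k := by
      show IsDominant (hW.fromSpec ≫ (i ≫ f))
      infer_instance
    rw [injective_iff_map_eq_zero]
    intro a ha
    by_contra hne
    obtain ⟨z, hz, ⟨c, rfl⟩⟩ := k.denseRange.inter_open_nonempty
      (PrimeSpectrum.basicOpen a : Set (PrimeSpectrum A)) (PrimeSpectrum.basicOpen a).isOpen
      ⟨⟨⊥, Ideal.isPrime_bot⟩, fun h => hne (Ideal.mem_bot.mp h)⟩
    rw [← hφ] at hz
    refine hz (show φ.hom a ∈ (c : PrimeSpectrum C).asIdeal from ?_)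
    rw [show φ.hom a = 0 from ha]
    exact Ideal.zero_mem _
  · rw [Category.assoc]
    exact hφ.symm
  · rw [show IsLocalRing.closedPoint C = Q from
      PrimeSpectrum.ext (IsLocalRing.eq_maximalIdeal ‹_›).symm]
    show i (hW.fromSpec Q) = x
    rw [hQ', ht]

end Groth.Agent.EGA43.FiniteThrough
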