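import Mathlib

/-!
Quasi-homeomorphisms and (locally) quasi-constructible sets.
-/

set_option autoImplicit false

noncomputable section

universe u v

namespace Groth.Agent.EGA43.QHomeo

open TopologicalSpace Set

variable {X : Type u} {Y : Type v} [TopologicalSpace X] [TopologicalSpace Y]

/-- quasi-constructible -/
def QC (Z : Set X) : Prop := ∃ T : Set (Set X), T.Finite ∧ (∀ t ∈ T, IsLocallyClosed t) ∧ Z = ⋃₀ T

/-- locally quasi-constructible -/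
def LQC (Z : Set X) : Prop :=
  ∀ x : X, ∃ U : Set X, IsOpen U ∧ x ∈ U ∧
    ∃ T : Set (Set X), T.Finite ∧ (∀ t ∈ T, IsLocallyClosed t) ∧ U ∩ Z = ⋃₀ T

theorem _root_.IsLocallyClosed.qc {Z : Set X} (h : IsLocallyClosed Z) : QC Z :=
  ⟨{Z}, finite_singleton Z, fun t ht => ht ▸ h, (sUnion_singleton Z).symm⟩

theorem qc_empty : QC (∅ : Set X) :=
  ⟨∅, finite_empty, fun _ h => absurd h (notMem_empty _), sUnion_empty.symm⟩

theorem qc_univ : QC (univ : Set X) := isOpen_univ.isLocallyClosed.qc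

theorem QC.inter {A B : Set X} (hA : QC A) (hB : QC B) : QC (A ∩ B) := by
  obtain ⟨T, hT, hTc, rfl⟩ := hA
  obtain ⟨T', hT', hTc', rfl⟩ := hB
  refine ⟨image2 (· ∩ ·) T T', hT.image2 _ hT', ?_, ?_⟩
  · rintro _ ⟨a, ha, b, hb, rfl⟩; exact (hTc a ha).inter (hTc' b hb)
  · ext x
    constructor
    · rintro ⟨⟨a, ha, hxa⟩, b, hb, hxb⟩; exact ⟨_, ⟨a, ha, b, hb, rfl⟩, hxa, hxb⟩
    · rintro ⟨_, ⟨a, ha, b, hb, rfl⟩, hxa, hxb⟩; exact ⟨⟨a, ha, hxa⟩, b, hb, hxb⟩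

theorem QC.union {A B : Set X} (hA : QC A) (hB : QC B) : QC (A ∪ B) := by
  obtain ⟨T, hT, hTc, rfl⟩ := hA
  obtain ⟨T', hT', hTc', rfl⟩ := hB
  exact ⟨T ∪ T', hT.union hT', fun t ht => ht.elim (hTc t) (hTc' t), (sUnion_union T T').symm⟩

theorem qc_compl_lc {Z : Set X} (h : IsLocallyClosed Z) : QC Zᶜ := by
  obtain ⟨U, C, hU, hC, rfl⟩ := h
  rw [compl_inter]
  exact hU.isClosed_compl.isLocallyClosed.qc.union hC.isOpen_compl.isLocallyClosed.qc

theorem QC.compl {A : Set X} (hA : QC A) : QC Aᶜ := by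
  obtain ⟨T, hT, hTc, rfl⟩ := hA
  induction T, hT using Set.Finite.induction_on with
  | empty => rw [sUnion_empty, compl_empty]; exact qc_univ
  | @insert a S _ _ ih =>
    rw [sUnion_insert, compl_union]
    exact (qc_compl_lc (hTc a (mem_insert a S))).inter
      (ih fun t ht => hTc t (mem_insert_of_mem a ht))

theorem QC.diff {A B : Set X} (hA : QC A) (hB : QC B) : QC (A \ B) := hA.inter hB.compl

theorem QC.preimage {f : X → Y} (hf : Continuous f) {A : Set Y} (hA : QC A) : QC (f ⁻¹' A) := by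
  obtain ⟨T, hT, hTc, rfl⟩ := hA
  refine ⟨(f ⁻¹' ·) '' T, hT.image _, ?_, ?_⟩
  · rintro _ ⟨a, ha, rfl⟩; exact (hTc a ha).preimage hf
  · rw [preimage_sUnion, sUnion_image]

theorem QC.image_val {U : Set X} (hU : IsLocallyClosed U) {A : Set U} (hA : QC A) :
    QC (Subtype.val '' A) := by
  obtain ⟨T, hT, hTc, rfl⟩ := hA
  refine ⟨(Subtype.val '' ·) '' T, hT.image _, ?_, ?_⟩
  · rintro _ ⟨a, ha, rfl⟩
    exact (hTc a ha).image Topology.IsInducing.subtypeVal (by rwa [Subtype.range_coe])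
  · rw [image_sUnion]

theorem qc_val_iff {U : Set X} (hU : IsLocallyClosed U) (Z : Set X) :
    QC (Subtype.val ⁻¹' Z : Set U) ↔ QC (U ∩ Z) := by
  refine ⟨fun h => ?_, fun h => ?_⟩
  · rw [← Subtype.image_preimage_coe]; exact h.image_val hU
  · have := h.preimage (f := (Subtype.val : U → X)) continuous_subtype_val
    rwa [preimage_inter, Subtype.coe_preimage_self, univ_inter] at this

theorem QC.lqc {A : Set X} (hA : QC A) : LQC A :=
  fun x => ⟨univ, isOpen_univ, trivial, by rwa [univ_inter]⟩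

theorem _root_.IsOpen.lqc {A : Set X} (hA : IsOpen A) : LQC A := hA.isLocallyClosed.qc.lqc

theorem LQC.inter {A B : Set X} (hA : LQC A) (hB : LQC B) : LQC (A ∩ B) := fun x => by
  obtain ⟨U, hU, hxU, hQ⟩ := hA x
  obtain ⟨V, hV, hxV, hQ'⟩ := hB x
  refine ⟨U ∩ V, hU.inter hV, ⟨hxU, hxV⟩, ?_⟩
  show QC (U ∩ V ∩ (A ∩ B))
  rw [inter_inter_inter_comm]
  exact QC.inter hQ hQ'

theorem LQC.diff {A B : Set X} (hA : LQC A) (hB : LQC B) : LQC (A \ B) := fun x => by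
  obtain ⟨U, hU, hxU, hQ⟩ := hA x
  obtain ⟨V, hV, hxV, hQ'⟩ := hB x
  refine ⟨U ∩ V, hU.inter hV, ⟨hxU, hxV⟩, ?_⟩
  have e : U ∩ V ∩ (A \ B) = (V ∩ (U ∩ A)) \ (V ∩ B) := by
    ext y; simp only [mem_inter_iff, Set.mem_sdiff]; tauto
  show QC (U ∩ V ∩ (A \ B))
  rw [e]
  exact (hV.isLocallyClosed.qc.inter hQ).diff hQ'

theorem LQC.preimage {f : X → Y} (hf : Continuous f) {A : Set Y} (hA : LQC A) : LQC (f ⁻¹' A) :=
  fun x => by
    obtain ⟨U, hU, hxU, hQ⟩ := hA (f x)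
    exact ⟨f ⁻¹' U, hU.preimage hf, hxU, (preimage_inter (f := f) (s := U) (t := A)) ▸ QC.preimage hf hQ⟩

theorem lqc_iff_val (Z : Set X) :
    LQC Z ↔ ∀ x : X, ∃ V : Set X, IsOpen V ∧ x ∈ V ∧
      ∃ T : Set (Set V), T.Finite ∧ (∀ t ∈ T, IsLocallyClosed t) ∧ (Subtype.val ⁻¹' Z : Set V) = ⋃₀ T := by
  refine forall_congr' fun x => exists_congr fun V => ⟨fun ⟨hV, hx, h⟩ => ⟨hV, hx, ?_⟩, fun ⟨hV, hx, h⟩ => ⟨hV, hx, ?_⟩⟩
  · exact (qc_val_iff hV.isLocallyClosed Z).mpr h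
  · exact (qc_val_iff hV.isLocallyClosed Z).mp h

/-- very dense subsets meet all locally quasi-constructible sets -/
theorem LQC.meets {S : Set X} (hS : ∀ Z : Set X, IsLocallyClosed Z → Z.Nonempty → (Z ∩ S).Nonempty)
    {A : Set X} (hA : LQC A) (hne : A.Nonempty) : (A ∩ S).Nonempty := by
  obtain ⟨x, hx⟩ := hne
  obtain ⟨U, hU, hxU, T, hT, hTc, hTe⟩ := hA x
  obtain ⟨t, ht, hxt⟩ := (hTe ▸ ⟨hxU, hx⟩ : x ∈ ⋃₀ T)
  obtain ⟨y, hyt, hyS⟩ := hS t (hTc t ht) ⟨x, hxt⟩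
  have : y ∈ U ∩ A := hTe ▸ ⟨t, ht, hyt⟩
  exact ⟨y, this.2, hyS⟩

theorem LQC.eq_of_inter_eq {S : Set X}
    (hS : ∀ Z : Set X, IsLocallyClosed Z → Z.Nonempty → (Z ∩ S).Nonempty)
    {A B : Set X} (hA : LQC A) (hB : LQC B) (h : A ∩ S = B ∩ S) : A = B := by
  have key : ∀ {A B : Set X}, LQC A → LQC B → A ∩ S = B ∩ S → A ⊆ B := fun {A B} hA hB h y hy => by
    by_contra hyB
    obtain ⟨z, hz, hzS⟩ := (hA.diff hB).meets hS ⟨y, hy, hyB⟩
    exact hz.2 (h.le ⟨hz.1, hzS⟩).1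
  exact (key hA hB h).antisymm (key hB hA h.symm)

/-- quasi-homeomorphism -/
structure QH (f : X → Y) : Prop where
  cont : Continuous f
  inj : ∀ U₁ U₂ : Set Y, IsOpen U₁ → IsOpen U₂ → f ⁻¹' U₁ = f ⁻¹' U₂ → U₁ = U₂
  surj : ∀ V : Set X, IsOpen V → ∃ U : Set Y, IsOpen U ∧ f ⁻¹' U = V

variable {f : X → Y}

theorem qh_iff_bijective (hf : Continuous f) :
    QH f ↔ Function.Bijective (fun U : Opens Y =>
      (⟨f ⁻¹' (U : Set Y), U.isOpen.preimage hf⟩ : Opens X)) := by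
  refine ⟨fun h => ⟨fun U V e => Opens.ext (h.inj U V U.2 V.2 (congrArg SetLike.coe e)), fun V => ?_⟩,
    fun h => ⟨hf, fun U V hU hV e => ?_, fun V hV => ?_⟩⟩
  · obtain ⟨U, hU, e⟩ := h.surj V V.2
    exact ⟨⟨U, hU⟩, Opens.ext e⟩
  · exact congrArg SetLike.coe (@h.1 ⟨U, hU⟩ ⟨V, hV⟩ (Opens.ext e))
  · obtain ⟨U, hU⟩ := h.2 ⟨V, hV⟩
    exact ⟨U, U.2, congrArg SetLike.coe hU⟩

theorem QH.meets (h : QH f) {Z : Set Y} (hZ : IsLocallyClosed Z) (hne : Z.Nonempty) :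
    (Z ∩ range f).Nonempty := by
  obtain ⟨U, C, hU, hC, rfl⟩ := hZ
  by_contra hc
  have e : f ⁻¹' U = f ⁻¹' (U ∩ Cᶜ) := by
    ext x
    exact ⟨fun hx => ⟨hx, fun hxC => hc ⟨f x, ⟨hx, hxC⟩, mem_range_self x⟩⟩, fun hx => hx.1⟩
  obtain ⟨y, hyU, hyC⟩ := hne
  exact ((h.inj U _ hU (hU.inter hC.isOpen_compl) e).le hyU).2 hyC

theorem QH.eq_of_preimage_eq (h : QH f) {A B : Set Y} (hA : LQC A) (hB : LQC B)
    (e : f ⁻¹' A = f ⁻¹' B) : A = B :=
  hA.eq_of_inter_eq (fun _ => h.meets) hB (by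
    rw [← image_preimage_eq_inter_range, ← image_preimage_eq_inter_range, e])

theorem QH.inducing (h : QH f) : Topology.IsInducing f :=
  ⟨le_antisymm h.cont.le_induced fun V hV => h.surj V hV⟩

theorem QH.of_meets_of_inducing (hf : Topology.IsInducing f)
    (hm : ∀ U V : Set Y, IsOpen U → IsOpen V → U ∩ range f = V ∩ range f → U = V) : QH f :=
  ⟨hf.continuous, fun U V hU hV e => hm U V hU hV (by
    rw [← image_preimage_eq_inter_range, ← image_preimage_eq_inter_range, e]),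
    fun _ hV => hf.isOpen_iff.mp hV⟩

theorem QH.surj_lc (h : QH f) {Z : Set X} (hZ : IsLocallyClosed Z) :
    ∃ Z' : Set Y, IsLocallyClosed Z' ∧ f ⁻¹' Z' = Z := by
  obtain ⟨U, C, hU, hC, rfl⟩ := hZ
  obtain ⟨U', hU', rfl⟩ := h.surj U hU
  obtain ⟨C', hC', hCe⟩ := h.surj Cᶜ hC.isOpen_compl
  exact ⟨U' ∩ C'ᶜ, hU'.isLocallyClosed.inter hC'.isClosed_compl.isLocallyClosed,
    by rw [preimage_inter, preimage_compl, hCe, compl_compl]⟩

theorem QH.surj_qc (h : QH f) {Z : Set X} (hZ : QC Z) : ∃ Z' : Set Y, QC Z' ∧ f ⁻¹' Z' = Z := by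
  obtain ⟨T, hT, hTc, rfl⟩ := hZ
  choose g hg hge using fun t : T => h.surj_lc (hTc t t.2)
  haveI := hT.to_subtype
  refine ⟨⋃₀ range g, ⟨range g, finite_range g, forall_mem_range.mpr hg, rfl⟩, ?_⟩
  rw [preimage_sUnion, biUnion_range, sUnion_eq_iUnion]
  exact iUnion_congr hge

/-- glueing along an open cover -/
theorem QH.surj_glue (h : QH f) {Z : Set X}
    (hZ : ∀ x : X, ∃ U' : Set Y, IsOpen U' ∧ f x ∈ U' ∧
      ∃ A : Set Y, QC A ∧ A ⊆ U' ∧ f ⁻¹' A = f ⁻¹' U' ∩ Z) :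
    ∃ Z' : Set Y, f ⁻¹' Z' = Z ∧ LQC Z' ∧ ∀ y : Y, ∃ x : X, ∃ U' A : Set Y, IsOpen U' ∧ y ∈ U' ∧ f x ∈ U' ∧
      U' ∩ Z' = A ∧ f ⁻¹' A = f ⁻¹' U' ∩ Z := by
  choose U hU hxU A hA hAU hAe using hZ
  have hcov : (⋃ x, U x) = univ := h.inj _ _ (isOpen_iUnion hU) isOpen_univ <| by
    refine eq_univ_of_forall fun x => ?_
    exact mem_iUnion.mpr ⟨x, hxU x⟩
  have key : ∀ a, U a ∩ ⋃ x, A x = A a := fun a => by
    refine Subset.antisymm ?_ fun y hy => ⟨hAU a hy, mem_iUnion.mpr ⟨a, hy⟩⟩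
    rintro y ⟨hyU, hy⟩
    obtain ⟨b, hyb⟩ := mem_iUnion.mp hy
    have e : A a ∩ U b = U a ∩ A b := by
      refine h.eq_of_preimage_eq ((hA a).inter (hU b).isLocallyClosed.qc).lqc
        ((hU a).isLocallyClosed.qc.inter (hA b)).lqc ?_
      rw [preimage_inter, preimage_inter, hAe a, hAe b, inter_right_comm, inter_assoc]
    exact (e.ge ⟨hyU, hyb⟩).1
  refine ⟨⋃ x, A x, ?_, fun y => ?_, fun y => ?_⟩
  · ext x
    rw [preimage_iUnion, mem_iUnion]
    exact ⟨fun ⟨a, ha⟩ => ((hAe a).le ha).2, fun hx => ⟨x, (hAe x).ge ⟨hxU x, hx⟩⟩⟩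
  · obtain ⟨a, ha⟩ := mem_iUnion.mp (hcov.ge (mem_univ y))
    exact ⟨U a, hU a, ha, (key a).symm ▸ hA a⟩
  · obtain ⟨a, ha⟩ := mem_iUnion.mp (hcov.ge (mem_univ y))
    exact ⟨a, U a, A a, hU a, ha, hxU a, key a, hAe a⟩

theorem QH.surj_lqc (h : QH f) {Z : Set X} (hZ : LQC Z) : ∃ Z' : Set Y, LQC Z' ∧ f ⁻¹' Z' = Z := by
  obtain ⟨Z', e, hZ', -⟩ := h.surj_glue (Z := Z) fun x => by
    obtain ⟨U, hU, hxU, hQ⟩ := hZ x
    obtain ⟨U', hU', rfl⟩ := h.surj U hU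
    obtain ⟨A, hA, hAe⟩ := h.surj_qc (Z := f ⁻¹' U' ∩ Z) hQ
    exact ⟨U', hU', hxU, U' ∩ A, hU'.isLocallyClosed.qc.inter hA, inter_subset_left, by
      rw [preimage_inter, hAe, ← inter_assoc, inter_self]⟩
  exact ⟨Z', hZ', e⟩

theorem QH.restrictPreimage (h : QH f) {S : Set Y} (hS : LQC S) : QH (S.restrictPreimage f) := by
  refine ⟨h.cont.restrictPreimage, fun U₁ U₂ hU₁ hU₂ e => ?_, fun V hV => ?_⟩
  · obtain ⟨O₁, hO₁, rfl⟩ := isOpen_induced_iff.mp hU₁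
    obtain ⟨O₂, hO₂, rfl⟩ := isOpen_induced_iff.mp hU₂
    have e' : S ∩ O₁ = S ∩ O₂ := by
      refine h.eq_of_preimage_eq (hS.inter hO₁.lqc) (hS.inter hO₂.lqc) ?_
      ext x
      simp only [mem_preimage, mem_inter_iff, and_congr_right_iff]
      intro hx
      exact Set.ext_iff.mp e ⟨x, hx⟩
    rwa [Subtype.preimage_coe_eq_preimage_coe_iff]
  · obtain ⟨O, hO, rfl⟩ := isOpen_induced_iff.mp hV
    obtain ⟨O', hO', rfl⟩ := h.surj O hO
    exact ⟨Subtype.val ⁻¹' O', hO'.preimage continuous_subtype_val, rfl⟩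

theorem QH.compactSpace_iff (h : QH f) : CompactSpace X ↔ CompactSpace Y := by
  rw [← isCompact_univ_iff, ← isCompact_univ_iff]
  constructor
  · intro hc
    refine isCompact_of_finite_subcover fun {ι} U hU hcov => ?_
    obtain ⟨t, ht⟩ := hc.elim_finite_subcover (fun i => f ⁻¹' U i) (fun i => (hU i).preimage h.cont)
      fun x _ => by simpa using hcov (mem_univ (f x))
    refine ⟨t, (h.inj (⋃ i ∈ t, U i) univ (isOpen_biUnion fun i _ => hU i) isOpen_univ ?_).ge⟩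
    exact eq_univ_of_forall fun x => by simpa using ht (mem_univ x)
  · intro hc
    refine isCompact_of_finite_subcover fun {ι} V hV hcov => ?_
    choose U hU hUe using fun i => h.surj (V i) (hV i)
    have hcovU : (⋃ i, U i) = univ := h.inj _ _ (isOpen_iUnion hU) isOpen_univ <| by
      rw [preimage_iUnion, preimage_univ]
      simp only [hUe]
      exact univ_subset_iff.mp hcov
    obtain ⟨t, ht⟩ := hc.elim_finite_subcover U hU hcovU.ge
    refine ⟨t, fun x _ => ?_⟩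
    have := ht (mem_univ (f x))
    simp only [mem_iUnion] at this ⊢
    obtain ⟨i, hi, hxi⟩ := this
    exact ⟨i, hi, hUe i ▸ hxi⟩

theorem QH.isCompact_iff (h : QH f) {S : Set Y} (hS : LQC S) :
    IsCompact S ↔ IsCompact (f ⁻¹' S) := by
  rw [isCompact_iff_compactSpace, isCompact_iff_compactSpace,
    (h.restrictPreimage hS).compactSpace_iff]

theorem QH.noetherianSpace_iff (h : QH f) : NoetherianSpace X ↔ NoetherianSpace Y := by
  rw [noetherianSpace_iff_opens, noetherianSpace_iff_opens]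
  refine ⟨fun hc U => (h.isCompact_iff U.2.lqc).mpr (hc ⟨f ⁻¹' U, U.2.preimage h.cont⟩), fun hc V => ?_⟩
  obtain ⟨U, hU, e⟩ := h.surj V V.2
  rw [← e]
  exact (h.isCompact_iff hU.lqc).mp (hc ⟨U, hU⟩)

theorem QH.isRetrocompact_iff (h : QH f) {S : Set Y} (hS : LQC S) :
    IsRetrocompact S ↔ IsRetrocompact (f ⁻¹' S) := by
  refine ⟨fun hr V hVc hVo => ?_, fun hr U hUc hUo => ?_⟩
  · obtain ⟨U, hU, rfl⟩ := h.surj V hVo
    rw [← preimage_inter, ← h.isCompact_iff (hS.inter hU.lqc)]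
    exact hr ((h.isCompact_iff hU.lqc).mpr hVc) hU
  · rw [h.isCompact_iff (hS.inter hUo.lqc), preimage_inter]
    exact hr ((h.isCompact_iff hUo.lqc).mp hUc) (hUo.preimage h.cont)

theorem QH.constructible_preimage (h : QH f) {S : Set Y} (hS : Topology.IsConstructible S) :
    Topology.IsConstructible (f ⁻¹' S) :=
  hS.preimage h.cont fun _ hs hr => (h.isRetrocompact_iff hs.lqc).mp hr

theorem qc_of_constructible {S : Set X} (hS : Topology.IsConstructible S) : QC S := by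
  induction hS using Topology.IsConstructible.empty_union_induction with
  | open_retrocompact U hU _ => exact hU.isLocallyClosed.qc
  | union s _ t _ hs ht => exact hs.union ht
  | compl s _ hs => exact hs.compl

theorem lqc_of_locallyConstructible {S : Set X} (hS : Topology.IsLocallyConstructible S) : LQC S := by
  rw [lqc_iff_val]
  intro x
  obtain ⟨U, hxU, hU, hc⟩ := hS x
  exact ⟨U, hU, mem_of_mem_nhds hxU, qc_of_constructible hc⟩

theorem QH.surj_constructible (h : QH f) {Z : Set X} (hZ : Topology.IsConstructible Z) :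
    ∃ Z' : Set Y, Topology.IsConstructible Z' ∧ f ⁻¹' Z' = Z := by
  induction hZ using Topology.IsConstructible.empty_union_induction with
  | open_retrocompact U hU hr =>
    obtain ⟨U', hU', e⟩ := h.surj U hU
    exact ⟨U', ((h.isRetrocompact_iff hU'.lqc).mpr (e.symm ▸ hr)).isConstructible hU', e⟩
  | union s _ t _ hs ht =>
    obtain ⟨s', hs', rfl⟩ := hs
    obtain ⟨t', ht', rfl⟩ := ht
    exact ⟨s' ∪ t', hs'.union ht', preimage_union⟩
  | compl s _ hs =>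
    obtain ⟨s', hs', rfl⟩ := hs
    exact ⟨s'ᶜ, hs'.compl, preimage_compl⟩

theorem QH.locallyConstructible_preimage (h : QH f) {S : Set Y}
    (hS : Topology.IsLocallyConstructible S) : Topology.IsLocallyConstructible (f ⁻¹' S) := fun x => by
  obtain ⟨U, hxU, hU, hc⟩ := hS (f x)
  exact ⟨f ⁻¹' U, h.cont.continuousAt.preimage_mem_nhds hxU, hU.preimage h.cont,
    (h.restrictPreimage hU.lqc).constructible_preimage hc⟩

theorem QH.surj_locallyConstructible (h : QH f) {Z : Set X} (hZ : Topology.IsLocallyConstructible Z) :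
    ∃ Z' : Set Y, Topology.IsLocallyConstructible Z' ∧ f ⁻¹' Z' = Z := by
  have hloc : ∀ x : X, ∃ U' : Set Y, IsOpen U' ∧ f x ∈ U' ∧
      Topology.IsConstructible (Subtype.val ⁻¹' Z : Set ↥(f ⁻¹' U')) := fun x => by
    obtain ⟨U, hxU, hU, hc⟩ := hZ x
    obtain ⟨U', hU', rfl⟩ := h.surj U hU
    exact ⟨U', hU', (mem_of_mem_nhds hxU : x ∈ f ⁻¹' U'), hc⟩
  choose U hU hxU hUc using hloc
  have hcov : (⋃ x, U x) = univ := h.inj _ _ (isOpen_iUnion hU) isOpen_univ <| by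
    exact eq_univ_of_forall fun x => mem_iUnion.mpr ⟨x, hxU x⟩
  obtain ⟨Z', hZ', e⟩ := h.surj_lqc (lqc_of_locallyConstructible hZ)
  refine ⟨Z', fun y => ?_, e⟩
  obtain ⟨a, ha⟩ := mem_iUnion.mp (hcov.ge (mem_univ y))
  refine ⟨U a, (hU a).mem_nhds ha, hU a, ?_⟩
  obtain ⟨C, hC, hCe⟩ := (h.restrictPreimage (hU a).lqc).surj_constructible (hUc a)
  have : (Subtype.val ⁻¹' Z' : Set ↥(U a)) = C := by
    refine (h.restrictPreimage (hU a).lqc).eq_of_preimage_eq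
      (hZ'.preimage continuous_subtype_val) (qc_of_constructible hC).lqc ?_
    rw [hCe]
    ext z
    exact (Set.ext_iff.mp e z.1)
  rwa [this]

/-- a very dense subspace -/
theorem qh_val {S : Set X} (hS : ∀ Z : Set X, IsLocallyClosed Z → Z.Nonempty → (Z ∩ S).Nonempty) :
    QH (Subtype.val : S → X) :=
  .of_meets_of_inducing Topology.IsInducing.subtypeVal fun U V hU hV e => by
    rw [Subtype.range_coe] at e
    exact hU.lqc.eq_of_inter_eq hS hV.lqc e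

end Groth.Agent.EGA43.QHomeo
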